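import Cfsg.Agent.Lib.QS3.Split.Five

/-!
Groups with an involution centraliser `Q.S₃`: either the embedded alternating group of degree eight is everything or
the group is alternating of degree nine.
-/

set_option autoImplicit false
set_option maxRecDepth 100000
set_option linter.unusedSectionVars false

namespace CfsgQS3.Split

open Equiv

/-- A double transposition on the points `0, 1, 6, 7`. -/
def vA : A8 := el (swap 0 6 * swap 1 7) (by decide)

/-- Generators, all but the last fixing the point four. -/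
def gens6 : List A8 := [kA, wA, σA, vA, tA, dA]

/-- The value of a word in the generators. -/
def gval (w : List ℕ) : A8 := (w.map fun i => gens6.getD i 1).prod

/-- Elements carrying the point four to the points. -/
def reps8 : List A8 := [tA * (vA * (dA * eA)), vA * (dA * eA), tA * wA * (vA * (dA * eA)), wA * vA * (dA * eA), 1, dA, eA,
  dA * eA]

/-- Words in the stabiliser for the edges. -/
def edgeW : List (List (List ℕ)) := [[[0, 3, 0, 3, 0, 0], [0, 3, 0, 3, 0, 0], [0, 3, 0, 3, 0, 0], [0, 3, 0, 3, 0, 0], [0], [0], [0], [0]], [[], [], [], [], [1], [1], [1], [1]], [[4], [4], [4], [4], [2], [2], [2], [2]], [[2, 4], [], [1, 4], [1], [3], [2, 3], [2, 4], []], [[], [], [], [], [4], [4], [4], [4]], [[2], [2], [2], [2], [], [], [], []]]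

/-- Words for the products with a fixed transposition. -/
def swapW : List (List ℕ) := [[], [1, 3, 0, 0, 1, 3, 0, 3, 0, 1, 3], [1, 3, 0, 1, 3, 0, 2, 3, 0, 1, 3], [3, 5, 0, 5, 3], [3, 0, 0, 3], [0, 0, 3, 0, 3, 0, 3], [0, 0, 3, 0, 0, 3, 0], [3, 0, 1, 3, 0, 2, 3, 0, 1, 3], [3, 0, 1, 2, 3, 0, 3, 0, 1, 3], [3, 0, 5, 0, 3], [3, 0, 3], [0, 3, 0, 3, 0, 0], [0, 0, 3, 0, 3, 0], [4], [1, 3, 0, 5, 0, 3, 1, 4], [1, 3, 0, 3, 1, 4], [0, 1, 3, 0, 2, 3, 0, 1, 2], [0, 0, 1, 3, 0, 3, 0, 1, 4], [1, 3, 4, 5, 0, 3, 1, 5], [1, 4, 3, 0, 3, 1], [0, 1, 2, 3, 0, 3, 0, 1, 2], [0, 0, 1, 4, 3, 0, 3, 0, 1], [2, 5], [0, 5, 0, 2], [2, 0, 5, 0], [0, 2], [2, 0], [2]]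

/-- The pairs of points. -/
def swapP : List (Fin 8 × Fin 8) := [(0, 1), (0, 2), (0, 3), (0, 4), (0, 5), (0, 6), (0, 7), (1, 2), (1, 3), (1, 4), (1, 5), (1, 6), (1, 7), (2, 3), (2, 4), (2, 5), (2, 6), (2, 7), (3, 4), (3, 5), (3, 6), (3, 7), (4, 5), (4, 6), (4, 7), (5, 6), (5, 7), (6, 7)]

theorem edge_ok : ((List.range 6).all fun g => (List.finRange 8).all fun j =>
    decide ((((gens6.getD g 1) : A8) * reps8.getD j.1 1 : A8) =
      reps8.getD (((gens6.getD g 1 : A8) : Perm (Fin 8)) j).1 1 * gval ((edgeW.getD g []).getD j.1 [])) &&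
    ((edgeW.getD g []).getD j.1 []).all fun i => decide (i < 5)) = true := by decide +kernel

theorem swap_ok : ((List.range 28).all fun n => decide ((gval (swapW.getD n []) : Perm (Fin 8)) =
    swap 0 1 * swap (swapP.getD n (0, 0)).1 (swapP.getD n (0, 0)).2) && (swapW.getD n []).all fun i => decide (i < 6)) =
    true ∧ (List.finRange 8).all (fun a => (List.finRange 8).all fun b => decide (a = b) || swapP.contains (a, b) ||
      swapP.contains (b, a)) = true := by decide +kernel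

theorem reps_ok : ∀ j : Fin 8, ((reps8.getD j.1 1 : A8) : Perm (Fin 8)) 4 = j := by decide +kernel

/-- The six elements generate the alternating group. -/
theorem gens6_top (S : Subgroup A8) (hS : ∀ i < 6, gens6.getD i 1 ∈ S) : S = ⊤ := by
  have hw : ∀ w : List ℕ, (∀ i ∈ w, i < 6) → gval w ∈ S := fun w hw => Subgroup.list_prod_mem _ fun a ha => by
    obtain ⟨i, hi, rfl⟩ := List.mem_map.1 ha; exact hS i (hw i hi)
  set P : Subgroup (Perm (Fin 8)) := S.map (alternatingGroup (Fin 8)).subtype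
  have hpair : ∀ a b : Fin 8, a ≠ b → swap 0 1 * swap a b ∈ P := by
    intro a b hab
    have h := List.all_eq_true.1 (List.all_eq_true.1 swap_ok.2 a (List.mem_finRange a)) b (List.mem_finRange b)
    simp only [Bool.or_eq_true, decide_eq_true_eq, hab, false_or, List.contains_iff_mem] at h
    have key : ∀ q : Fin 8 × Fin 8, q ∈ swapP → swap 0 1 * swap q.1 q.2 ∈ P := by
      intro q hq
      obtain ⟨n, hn, rfl⟩ := List.getElem_of_mem hq
      have hn' : n < 28 := hn
      have h := List.all_eq_true.1 swap_ok.1 n (List.mem_range.2 hn')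
      simp only [Bool.and_eq_true, decide_eq_true_eq, List.all_eq_true] at h
      rw [List.getD_eq_getElem?_getD (l := swapP), List.getElem?_eq_getElem hn, Option.getD_some] at h
      exact ⟨_, hw _ h.2, h.1⟩
    rcases h with h | h
    · exact key _ h
    · rw [swap_comm a b]; exact key _ h
  have key : ∀ σ : Perm (Fin 8), (Perm.sign σ = 1 → σ ∈ P) ∧ (Perm.sign σ = -1 → swap 0 1 * σ ∈ P) := by
    intro σ
    induction σ using Equiv.Perm.swap_induction_on with
    | one => exact ⟨fun _ => P.one_mem, fun h => absurd h (by rw [map_one]; decide)⟩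
    | swap_mul f x y hxy ih =>
      obtain ⟨h1, h2⟩ := ih
      have hs : Perm.sign (swap x y * f) = -Perm.sign f := by rw [map_mul, Perm.sign_swap hxy]; simp
      refine ⟨fun h => ?_, fun h => ?_⟩
      · have hf : Perm.sign f = -1 := by rw [hs] at h; exact neg_eq_iff_eq_neg.1 h
        have := P.mul_mem (P.inv_mem (hpair x y hxy)) (h2 hf)
        rwa [mul_inv_rev, swap_inv, swap_inv, mul_assoc, swap_mul_self_mul] at this
      · have hf : Perm.sign f = 1 := by rw [hs] at h; simpa using h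
        rw [← mul_assoc]
        exact P.mul_mem (hpair x y hxy) (h1 hf)
  refine eq_top_iff.2 fun a _ => ?_
  obtain ⟨b, hb, e⟩ := (key a).1 (Perm.mem_alternatingGroup.1 a.2)
  rwa [← Subtype.ext e]

namespace Emb

variable {G : Type*} [Group G] [Finite G] {ι : A8 →* G} (E : Emb ι)
include E

/-- A subgroup containing the image and the centraliser of the double transposition is everything. -/
theorem closed_top (M : Subgroup G) (hL : ι.range ≤ M) (hR : E.R ≤ M) : M = ⊤ := by
  have hzz : zA * zA = 1 ∧ zA ≠ 1 := ⟨Subtype.ext (by decide), fun h => absurd (congrArg Subtype.val h) (by decide)⟩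
  have hz2 : ι zA * ι zA = 1 := by rw [← map_mul, hzz.1, map_one]
  have ht2 : ∀ g : G, g * ι tA * g⁻¹ * (g * ι tA * g⁻¹) = 1 := fun g => by
    rw [show g * ι tA * g⁻¹ * (g * ι tA * g⁻¹) = g * ι (tA * tA) * g⁻¹ by rw [map_mul]; group,
      show tA * tA = 1 from Subtype.ext (by decide), map_one]; group
  -- involutions of the image
  have hw : ∀ a : A8, a * a = 1 → a ≠ 1 → ∀ g : G, g * ι a = ι a * g → g ∈ M := by
    intro a h2 h1 g hg
    cases hu : isU a with
    | true => obtain ⟨b, rfl⟩ := E.cent_U hu hg; exact hL ⟨b, rfl⟩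
    | false =>
      obtain ⟨b, hb⟩ := E.conj_t hu h2 h1
      have hm : (ι b)⁻¹ * g * ι b ∈ E.R := E.mem_R.2 (by
        rw [← hb] at hg
        calc (ι b)⁻¹ * g * ι b * ι tA = (ι b)⁻¹ * (g * (ι b * ι tA * (ι b)⁻¹)) * ι b := by group
          _ = _ := by rw [hg]; group)
      have := M.mul_mem (M.mul_mem (hL ⟨b, rfl⟩) (hR hm)) (M.inv_mem (hL ⟨b, rfl⟩))
      rwa [show ι b * ((ι b)⁻¹ * g * ι b) * (ι b)⁻¹ = g by group] at this
  have hnz : ∀ g : G, ∀ a : A8, g * ι tA * g⁻¹ = ι a → ∃ b : A8, ι b * ι tA * (ι b)⁻¹ = g * ι tA * g⁻¹ := by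
    intro g a h
    have h2 : a * a = 1 := E.inj (by rw [map_mul, map_one, ← h]; exact ht2 g)
    have hu : isU a = false := (E.isU_conj (Subtype.ext (by decide)) h2 h).symm.trans (by decide)
    have h1 : a ≠ 1 := by
      rintro rfl
      rw [map_one] at h
      have : ι tA = ι 1 := by
        rw [map_one, show ι tA = g⁻¹ * (g * ι tA * g⁻¹) * g by group, h]; group
      exact absurd (E.eq_iff.1 this) (by decide)
    obtain ⟨b, hb⟩ := E.conj_t hu h2 h1
    exact ⟨b, hb.trans h.symm⟩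
  -- conjugates of the double transposition are conjugate inside
  have hconj : ∀ g : G, ∃ m ∈ M, m * ι tA * m⁻¹ = g * ι tA * g⁻¹ := by
    intro g
    obtain ⟨c, hc⟩ | ⟨w, hw1, hw2, hwz, hwt⟩ := CfsgQS3.invol_pair hz2 (ht2 g)
    · refine absurd ?_ (E.nconj (g⁻¹ * c))
      rw [show g⁻¹ * c * ι zA * (g⁻¹ * c)⁻¹ = g⁻¹ * (c * ι zA * c⁻¹) * g by group, hc]; group
    obtain ⟨a, rfl⟩ := E.cent w hwz
    have ha2 : a * a = 1 := E.inj (by rw [map_mul, map_one, hw2])
    have ha1 : a ≠ 1 := fun h => hw1 (by rw [h, map_one])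
    cases hu : isU a with
    | true =>
      obtain ⟨b, hb⟩ := E.cent_U hu (g := g * ι tA * g⁻¹) hwt.symm
      obtain ⟨l, hl⟩ := hnz g b hb.symm
      exact ⟨ι l, hL ⟨l, rfl⟩, hl⟩
    | false =>
      obtain ⟨b, hb⟩ := E.conj_t hu ha2 ha1
      set t' := (ι b)⁻¹ * (g * ι tA * g⁻¹) * ι b with ht'
      have ht'R : t' ∈ E.R := E.mem_R.2 (by
        rw [← hb] at hwt
        calc (ι b)⁻¹ * (g * ι tA * g⁻¹) * ι b * ι tA
            = (ι b)⁻¹ * ((g * ι tA * g⁻¹) * (ι b * ι tA * (ι b)⁻¹)) * ι b := by group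
          _ = _ := by rw [← hwt, ht']; group)
      obtain ⟨-, -, hS, hsub⟩ := lists_closed
      simp only [List.all_eq_true, Bool.and_eq_true, List.contains_iff_mem] at hS hsub
      obtain ⟨V, hV⟩ := E.list_subgroup sList (by decide +kernel) (fun a ha => (hS a ha).1)
        (fun a ha b hb => (hS a ha).2 b hb)
      have hVR : V ≤ E.R := fun x hx => by
        obtain ⟨a, ha, rfl⟩ := (hV x).1 hx; exact E.image_R.2 (hsub _ ha)
      have hVc : Nat.card (V.subgroupOf E.R) = 2 ^ 5 := by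
        rw [Nat.card_congr (Subgroup.subgroupOfEquivOfLe hVR).toEquiv,
          E.card_list_subgroup lists_card.2.2.1 sList_even hV, lists_card.2.2.2.1]; rfl
      haveI : Fact (Nat.Prime 2) := ⟨Nat.prime_two⟩
      obtain ⟨Q, hQ⟩ := IsPGroup.exists_le_sylow (G := E.R) (IsPGroup.of_card (p := 2) hVc)
      have hQV : (Q : Subgroup E.R) = V.subgroupOf E.R := (Subgroup.eq_of_le_of_card_ge hQ (by
        rw [hVc]
        refine le_trans (le_of_eq ?_) (E.two_R (Q.2.map E.R.subtype) (Subgroup.map_subtype_le _))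
        exact (Subgroup.card_map_of_injective E.R.subtype_injective).symm)).symm
      have hT : IsPGroup 2 (Subgroup.zpowers (⟨t', ht'R⟩ : E.R)) := by
        rintro ⟨y, n, rfl⟩
        refine ⟨1, Subtype.ext ?_⟩
        show ((⟨t', ht'R⟩ : E.R) ^ n) ^ (2 ^ 1) = 1
        have h2 : (⟨t', ht'R⟩ : E.R) * ⟨t', ht'R⟩ = 1 := Subtype.ext (by
          show t' * t' = 1
          rw [ht', show (ι b)⁻¹ * (g * ι tA * g⁻¹) * ι b * ((ι b)⁻¹ * (g * ι tA * g⁻¹) * ι b) =
            (ι b)⁻¹ * (g * ι tA * g⁻¹ * (g * ι tA * g⁻¹)) * ι b by group, ht2]; group)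
        rw [← zpow_natCast, ← zpow_mul, mul_comm, zpow_mul, show ((2 ^ 1 : ℕ) : ℤ) = 2 from rfl, zpow_two, h2,
          one_zpow]
      obtain ⟨Q', hQ'⟩ := IsPGroup.exists_le_sylow (G := E.R) hT
      obtain ⟨r, hr⟩ := MulAction.exists_smul_eq E.R Q' Q
      have hm : r * ⟨t', ht'R⟩ * r⁻¹ ∈ (Q : Subgroup E.R) := by
        rw [← hr]
        exact Subgroup.smul_mem_pointwise_smul _ (MulAut.conj r) _ (hQ' (Subgroup.mem_zpowers _))
      rw [hQV] at hm
      obtain ⟨d, -, hd⟩ := (hV _).1 hm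
      have hd' : ι d = (r : G) * t' * (r : G)⁻¹ := hd
      obtain ⟨l, hl⟩ := hnz ((r : G) * (ι b)⁻¹ * g) d (by rw [hd', ht']; group)
      refine ⟨ι b * (r : G)⁻¹ * ι l, M.mul_mem (M.mul_mem (hL ⟨b, rfl⟩) (M.inv_mem (hR r.2))) (hL ⟨l, rfl⟩), ?_⟩
      rw [show ι b * (r : G)⁻¹ * ι l * ι tA * (ι b * (r : G)⁻¹ * ι l)⁻¹ =
        ι b * (r : G)⁻¹ * (ι l * ι tA * (ι l)⁻¹) * (r : G) * (ι b)⁻¹ by group, hl]
      group
  refine eq_top_iff.2 fun g _ => ?_
  obtain ⟨m, hm, e⟩ := hconj g
  have hc : m⁻¹ * g ∈ E.R := E.mem_R.2 (by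
    calc m⁻¹ * g * ι tA = m⁻¹ * (g * ι tA * g⁻¹) * g := by group
      _ = _ := by rw [← e]; group)
  have := M.mul_mem hm (hR hc)
  rwa [mul_inv_cancel_left] at this

/-- Either the image is everything or the group is alternating of degree nine. -/
theorem dichotomy : Nonempty (G ≃* alternatingGroup (Fin 8)) ∨ Nonempty (G ≃* alternatingGroup (Fin 9)) := by
  classical
  by_cases hcase : E.R ≤ ι.range
  · left
    have htop := E.closed_top ι.range le_rfl hcase
    exact ⟨((MonoidHom.ofInjective E.inj).trans ((MulEquiv.subgroupCongr htop).trans Subgroup.topEquiv)).symm⟩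
  right
  have hR : ∃ r ∈ E.R, ∀ a, ι a ≠ r := by
    obtain ⟨r, hr, hn⟩ := SetLike.not_le_iff_exists.1 hcase
    exact ⟨r, hr, fun a e => hn ⟨a, e⟩⟩
  obtain ⟨x, hx, hxall, hxw, hxs, hxv, hRc⟩ := E.exists_x hR
  dsimp only at hxall
  set o : G ⧸ ι.range := ((1 : G) : G ⧸ ι.range) with ho
  set q := x • o with hq
  obtain ⟨hqo, hk, hwq, hsq, hxq, hxd, hxe, hxf⟩ := hxall
  have hfix : ∀ a : A8, ι a • o = o := fun a => by
    show ((ι a * 1 : G) : G ⧸ ι.range) = ((1 : G) : G ⧸ ι.range)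
    rw [mul_one, eq_comm, QuotientGroup.eq, inv_one, one_mul]; exact ⟨a, rfl⟩
  have hxt : x * ι tA = ι tA * x := E.mem_R.1 hx
  have hcq : ∀ a : A8, x * ι a = ι a * x → ι a • q = q := fun a h => by
    rw [hq, smul_smul, ← h, ← smul_smul, hfix]
  have hxv' : x * ι vA = ι vA * x := hxv
  have hstab : ∀ i < 5, ι (gens6.getD i 1) • q = q := by
    intro i hi
    interval_cases i
    · exact hk
    · exact hwq
    · exact hsq
    · exact hcq _ hxv'
    · exact hcq _ hxt
  have hword : ∀ w : List ℕ, (∀ i ∈ w, i < 5) → ι (gval w) • q = q := by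
    intro w
    induction w with
    | nil => intro _; simp [gval]
    | cons i w ih =>
      intro h
      simp only [gval, List.map_cons, List.prod_cons, map_mul, mul_smul]
      rw [show ι (List.map (fun i => gens6.getD i 1) w).prod • q = q from ih fun j hj => h j (List.mem_cons_of_mem _ hj)]
      exact hstab i (h i List.mem_cons_self)
  let pt : Fin 9 → G ⧸ ι.range := fun j => if h : j.1 < 8 then ι (reps8.getD j.1 1) • q else o
  have pt8 : pt 8 = o := rfl
  have ptc : ∀ j : Fin 8, pt j.castSucc = ι (reps8.getD j.1 1) • q := fun j => by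
    show (if h : (j.castSucc : Fin 9).1 < 8 then _ else _) = _
    rw [dif_pos (show (j.castSucc : Fin 9).1 < 8 from j.2)]
    rfl
  -- the equivariance on the image
  let St : Subgroup A8 :=
    { carrier := {a | ∀ j : Fin 8, ι a • pt j.castSucc = pt ((a : Perm (Fin 8)) j).castSucc}
      one_mem' := fun j => by rw [map_one, one_smul]; rfl
      mul_mem' := fun {a b} ha hb j => by rw [map_mul, mul_smul, hb, ha]; rfl
      inv_mem' := fun {a} ha j => by
        rw [map_inv, inv_smul_eq_iff, ha]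
        congr 2
        exact ((a : Perm (Fin 8)).apply_symm_apply j).symm }
  have hSt : St = ⊤ := gens6_top St fun g hg j => by
    have h := List.all_eq_true.1 (List.all_eq_true.1 edge_ok g (List.mem_range.2 hg)) j (List.mem_finRange j)
    simp only [Bool.and_eq_true, decide_eq_true_eq, List.all_eq_true] at h
    rw [ptc, ptc, smul_smul, ← map_mul, h.1, map_mul, mul_smul, hword _ h.2]
  have heq : ∀ (a : A8) (j : Fin 8), ι a • pt j.castSucc = pt ((a : Perm (Fin 8)) j).castSucc := fun a =>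
    (show a ∈ St from hSt ▸ Subgroup.mem_top a)
  -- the action of the extra element
  let ξ : Perm (Fin 9) := swap 8 5 * swap 8 4
  have hlow : ∀ (a : A8), x * ι a = ι a * x → ∀ j : Fin 8, x • ι (reps8.getD j.1 1) • q = ι (reps8.getD j.1 1) • q →
      x • ι (a * reps8.getD j.1 1) • q = ι (a * reps8.getD j.1 1) • q := by
    intro a h j hj
    rw [map_mul, mul_smul, smul_smul, h, ← smul_smul, hj]
  have hxf7 : x • ι (reps8.getD (7 : Fin 8).1 1) • q = ι (reps8.getD (7 : Fin 8).1 1) • q := hxf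
  have hxi : ∀ j : Fin 9, x • pt j = pt (ξ j) := by
    intro j
    fin_cases j
    · show x • pt (0 : Fin 8).castSucc = pt (0 : Fin 8).castSucc
      rw [ptc]
      refine (?_ : x • ι (tA * (vA * (dA * eA))) • q = ι (tA * (vA * (dA * eA))) • q)
      rw [← mul_assoc]
      exact hlow (tA * vA) (by rw [map_mul, ← mul_assoc, hxt, mul_assoc, hxv', ← mul_assoc]) 7 hxf7
    · show x • pt (1 : Fin 8).castSucc = pt (1 : Fin 8).castSucc
      rw [ptc]
      exact hlow vA hxv' 7 hxf7
    · show x • pt (2 : Fin 8).castSucc = pt (2 : Fin 8).castSucc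
      rw [ptc]
      refine (?_ : x • ι (tA * wA * (vA * (dA * eA))) • q = ι (tA * wA * (vA * (dA * eA))) • q)
      rw [← mul_assoc]
      exact hlow (tA * wA * vA) (by
        rw [map_mul, map_mul, ← mul_assoc, ← mul_assoc, hxt, mul_assoc (ι tA), hxw, ← mul_assoc, mul_assoc _ x, hxv',
          ← mul_assoc]) 7 hxf7
    · show x • pt (3 : Fin 8).castSucc = pt (3 : Fin 8).castSucc
      rw [ptc]
      exact hlow (wA * vA) (by rw [map_mul, ← mul_assoc, hxw, mul_assoc, hxv', ← mul_assoc]) 7 hxf7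
    · show x • pt (4 : Fin 8).castSucc = pt (5 : Fin 8).castSucc
      rw [ptc, ptc]
      show x • ι 1 • q = ι dA • q
      rw [map_one, one_smul]; exact hxq
    · show x • pt (5 : Fin 8).castSucc = pt 8
      rw [ptc, pt8]; exact hxd
    · show x • pt (6 : Fin 8).castSucc = pt (6 : Fin 8).castSucc
      rw [ptc]; exact hxe
    · show x • pt (7 : Fin 8).castSucc = pt (7 : Fin 8).castSucc
      rw [ptc]; exact hxf
    · show x • o = pt (4 : Fin 8).castSucc
      rw [ptc]
      show q = ι 1 • q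
      rw [map_one, one_smul]
  let M : Subgroup G :=
    { carrier := {g | ∃ σ : Perm (Fin 9), Perm.sign σ = 1 ∧ ∀ j, g • pt j = pt (σ j)}
      one_mem' := ⟨1, map_one _, fun j => one_smul _ _⟩
      mul_mem' := by
        rintro a b ⟨σ, h1, h2⟩ ⟨τ, h3, h4⟩
        exact ⟨σ * τ, by rw [map_mul, h1, h3, mul_one], fun j => by rw [mul_smul, h4, h2]; rfl⟩
      inv_mem' := by
        rintro a ⟨σ, h1, h2⟩
        exact ⟨σ⁻¹, by rw [map_inv, h1, inv_one], fun j => by
          rw [inv_smul_eq_iff, h2]; exact congrArg pt (σ.apply_symm_apply j).symm⟩ }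
  have hML : ι.range ≤ M := by
    rintro _ ⟨a, rfl⟩
    refine ⟨(a : Perm (Fin 8)).viaFintypeEmbedding Fin.castSuccEmb, ?_, fun j => ?_⟩
    · rw [Equiv.Perm.viaFintypeEmbedding_sign]; exact Perm.mem_alternatingGroup.1 a.2
    · by_cases h : j.1 < 8
      · obtain ⟨i, rfl⟩ : ∃ i : Fin 8, i.castSucc = j := ⟨⟨j.1, h⟩, rfl⟩
        rw [heq, show (a : Perm (Fin 8)).viaFintypeEmbedding Fin.castSuccEmb i.castSucc =
          ((a : Perm (Fin 8)) i).castSucc from Equiv.Perm.viaFintypeEmbedding_apply_image _ _ i]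
      · have : j = 8 := Fin.ext (by have := j.2; omega)
        subst this
        rw [Equiv.Perm.viaFintypeEmbedding_apply_notMem_range (h := by
          rintro ⟨i, hi⟩
          have := congrArg Fin.val hi
          simp at this
          omega), pt8, hfix]
  have hMx : x ∈ M := ⟨ξ, by decide, hxi⟩
  have hMR : E.R ≤ M := by
    obtain ⟨_, hsub⟩ := lists_card
    let N : Subgroup E.R := M.subgroupOf E.R
    let K : Subgroup E.R := ι.range.subgroupOf E.R
    have hev : ∀ p ∈ cList, Perm.sign p = 1 := fun p hp =>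
      decide_eq_true_iff.1 (List.all_eq_true.1 a4_facts.2.2.2.1 p hp)
    have hK : 96 = Nat.card K := by
      let Fc : {p // p ∈ cList.toFinset} → K := fun p =>
        ⟨⟨ι (el p.1 (hev _ (List.mem_toFinset.1 p.2))), E.image_R.2 (List.mem_toFinset.1 p.2)⟩, ⟨_, rfl⟩⟩
      have hb : Function.Bijective Fc := by
        refine ⟨fun p q h => Subtype.ext ((E.eq_iff (a := el p.1 _) (b := el q.1 _)).1
          (congrArg (fun z : K => ((z : E.R) : G)) h)), ?_⟩
        rintro ⟨⟨g, hg⟩, hz⟩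
        obtain ⟨a, ha⟩ := hz
        have ha' : ι a = g := ha
        subst ha'
        exact ⟨⟨_, List.mem_toFinset.2 (E.image_R.1 hg)⟩, rfl⟩
      rw [← Nat.card_congr (Equiv.ofBijective _ hb), Nat.card_eq_fintype_card, Fintype.card_coe,
        List.toFinset_card_of_nodup lists_card.1, lists_card.2.1]
    have hKN : K < N := lt_of_le_of_ne (fun r hr => hML hr) fun h => hqo (by
      have : (⟨x, hx⟩ : E.R) ∈ K := h ▸ (show x ∈ M from hMx)
      obtain ⟨a, ha⟩ := this
      rw [hq, show x = ι a from ha.symm, hfix])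
    have h1 : Nat.card K ∣ Nat.card N := Subgroup.card_dvd_of_le hKN.le
    have h2 : Nat.card N ∣ 480 := hRc ▸ Subgroup.card_subgroup_dvd_card N
    have h3 : Nat.card K < Nat.card N := lt_of_le_of_ne (Subgroup.card_le_of_le hKN.le) fun h =>
      hKN.ne (Subgroup.eq_of_le_of_card_ge hKN.le h.ge)
    rw [← hK] at h1 h3
    have h4 : Nat.card N = 480 := by
      obtain ⟨k, hk⟩ := h1
      rw [hk] at h2 h3 ⊢
      have h5 : k ∣ 5 := Nat.dvd_of_mul_dvd_mul_left (by norm_num : 0 < 96) (show 96 * k ∣ 96 * 5 from h2)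
      rcases (Nat.dvd_prime (by norm_num : Nat.Prime 5)).1 h5 with rfl | rfl
      · omega
      · rfl
    have htop : N = ⊤ := Subgroup.eq_top_of_card_eq _ (by rw [h4, hRc])
    intro r hr
    exact (show (⟨r, hr⟩ : E.R) ∈ N from htop ▸ Subgroup.mem_top _)
  have hMtop := E.closed_top M hML hMR
  have hsurj : Function.Surjective pt := by
    intro y
    induction y using QuotientGroup.induction_on with
    | H g =>
      obtain ⟨σ, -, h⟩ := (show g ∈ M from hMtop ▸ Subgroup.mem_top g)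
      refine ⟨σ 8, ?_⟩
      rw [← h 8, pt8, ho]
      show ((g * 1 : G) : G ⧸ ι.range) = _
      rw [mul_one]
  -- the points are distinct
  have hne : ∀ i : Fin 8, pt i.castSucc ≠ o := fun i h => hqo (by
    rw [ptc, ← inv_inv (ι _), inv_smul_eq_iff, ← map_inv, hfix] at h
    exact h)
  have htrans : ∀ j : Fin 8, j ≠ 4 → ∃ a : A8, (a : Perm (Fin 8)) 4 = 4 ∧ (a : Perm (Fin 8)) j = 5 := by
    have h : ∀ j : Fin 8, j ≠ 4 → ∃ w ∈ ([[], [0], [0, 0], [0, 3], [0, 4, 3], [0, 3, 4], [0, 3, 1], [0, 3, 1, 4],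
        [0, 3, 4, 1], [0, 0, 3], [0, 0, 4, 3], [0, 0, 3, 4], [0, 0, 3, 1], [0, 0, 3, 1, 4], [0, 0, 3, 4, 1]] :
        List (List ℕ)), ((gval w : A8) : Perm (Fin 8)) 4 = 4 ∧ ((gval w : A8) : Perm (Fin 8)) j = 5 := by
      decide +kernel
    intro j hj
    obtain ⟨w, -, hw⟩ := h j hj
    exact ⟨_, hw⟩
  have hinj : Function.Injective pt := by
    intro i j hij
    by_contra hij'
    rcases lt_or_ge i.1 8 with hi | hi <;> rcases lt_or_ge j.1 8 with hj | hj
    · obtain ⟨i, rfl⟩ : ∃ k : Fin 8, k.castSucc = i := ⟨⟨i.1, hi⟩, rfl⟩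
      obtain ⟨j, rfl⟩ : ∃ k : Fin 8, k.castSucc = j := ⟨⟨j.1, hj⟩, rfl⟩
      have h1 := congrArg (fun y => ι (reps8.getD i.1 1)⁻¹ • y) hij
      simp only [heq] at h1
      have hi4 : (((reps8.getD i.1 1)⁻¹ : A8) : Perm (Fin 8)) i = 4 := by
        show ((reps8.getD i.1 1 : A8) : Perm (Fin 8))⁻¹ i = 4
        rw [Perm.inv_eq_iff_eq, reps_ok]
      rw [hi4] at h1
      obtain ⟨a, ha4, ha5⟩ := htrans ((((reps8.getD i.1 1)⁻¹ : A8) : Perm (Fin 8)) j) (fun h => hij' (by
        rw [← hi4] at h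
        rw [((((reps8.getD i.1 1)⁻¹ : A8) : Perm (Fin 8))).injective h]))
      have h2 := congrArg (fun y => ι a • y) h1
      simp only [heq, ha4, ha5] at h2
      have h45 : q = ι dA • q := by
        rw [ptc, ptc] at h2
        simpa [reps8] using h2
      have h6 : x • q = q := hxq.trans h45.symm
      exact hqo (MulAction.injective x h6)
    · have : j = 8 := Fin.ext (by have := j.2; omega)
      subst this
      obtain ⟨i, rfl⟩ : ∃ k : Fin 8, k.castSucc = i := ⟨⟨i.1, hi⟩, rfl⟩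
      exact hne i (hij.trans pt8)
    · have : i = 8 := Fin.ext (by have := i.2; omega)
      subst this
      obtain ⟨j, rfl⟩ : ∃ k : Fin 8, k.castSucc = j := ⟨⟨j.1, hj⟩, rfl⟩
      exact hne j (hij.symm.trans pt8)
    · exact hij' (Fin.ext (by have := i.2; have := j.2; omega))
  choose σ hσ1 hσ2 using fun g : G => (show g ∈ M from hMtop ▸ Subgroup.mem_top g)
  let Ψ : G →* alternatingGroup (Fin 9) := MonoidHom.mk' (fun g => ⟨σ g, Perm.mem_alternatingGroup.2 (hσ1 g)⟩)
    fun a b => Subtype.ext (Equiv.ext fun j => hinj (by rw [← hσ2, mul_smul, hσ2, hσ2]; rfl))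
  have hΨ : Function.Injective Ψ := by
    rw [injective_iff_map_eq_one]
    intro g hg
    have hall : ∀ j, g • pt j = pt j := fun j => by
      rw [hσ2, show σ g = 1 from congrArg Subtype.val hg]; rfl
    have hgo : g • o = o := hall 8
    obtain ⟨a, rfl⟩ : g ∈ ι.range := by
      have h : ((g * 1 : G) : G ⧸ ι.range) = ((1 : G) : G ⧸ ι.range) := hgo
      rw [mul_one, eq_comm, QuotientGroup.eq, inv_one, one_mul] at h
      exact h
    rw [show a = 1 from Subtype.ext (Equiv.ext fun j => Fin.castSucc_injective 8 (hinj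
      ((heq a j).symm.trans (hall j.castSucc)))), map_one]
  have hcard : Nat.card G = Nat.card (alternatingGroup (Fin 9)) := by
    have h1 := ι.range.card_mul_index
    rw [Subgroup.index_eq_card, ← Nat.card_congr (Equiv.ofBijective pt ⟨hinj, hsurj⟩), Nat.card_fin,
      ← Nat.card_congr (MonoidHom.ofInjective E.inj).toEquiv, nat_card_alternatingGroup, Nat.card_fin] at h1
    rw [← h1, nat_card_alternatingGroup, Nat.card_fin]
    rfl
  exact ⟨MulEquiv.ofBijective Ψ ((Nat.bijective_iff_injective_and_card Ψ).2 ⟨hΨ, hcard⟩)⟩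

end Emb

end CfsgQS3.Split
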