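import Cfsg.Agent.Lib.QS3.Split.Perms
import Mathlib.GroupTheory.Sylow

/-!
Groups with an involution centraliser `Q.S₃`: an embedded alternating group of degree eight containing the centraliser
of an involution and a Sylow 2-subgroup.
-/

set_option autoImplicit false
set_option maxRecDepth 100000
set_option linter.unusedSectionVars false

namespace CfsgQS3.Split

open Equiv

/-- An element of the alternating group. -/
def el (p : Perm (Fin 8)) (h : Perm.sign p = 1) : A8 := ⟨p, Perm.mem_alternatingGroup.2 h⟩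

/-- The involution with central centraliser. -/
def zA : A8 := el zP (by decide)
/-- The other involution. -/
def tA : A8 := el tP (by decide)

/-- The embedding data. -/
structure Emb {G : Type*} [Group G] (ι : A8 →* G) : Prop where
  inj : Function.Injective ι
  cent : ∀ g : G, g * ι zA = ι zA * g → ∃ a, ι a = g
  nconj : ∀ g : G, g * ι zA * g⁻¹ ≠ ι tA
  two : ∀ P : Subgroup G, IsPGroup 2 P → ∃ c : G, ∀ x ∈ P, ∃ a, ι a = c * x * c⁻¹

namespace Emb

variable {G : Type*} [Group G] {ι : A8 →* G} (E : Emb ι)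
include E

theorem eq_iff {a b : A8} : ι a = ι b ↔ (a : Perm (Fin 8)) = b :=
  ⟨fun h => congrArg Subtype.val (E.inj h), fun h => congrArg ι (Subtype.ext h)⟩

theorem comm_iff {a b : A8} : ι a * ι b = ι b * ι a ↔ (a : Perm (Fin 8)) * b = b * a := by
  rw [← map_mul, ← map_mul, E.eq_iff]; rfl

/-- An involution of the alternating group is conjugate to one of the representatives. -/
theorem classes {a : A8} (h2 : a * a = 1) (h1 : a ≠ 1) :
    ∃ b : A8, (b * a * b⁻¹ = zA ∧ isU a = true) ∨ (b * a * b⁻¹ = tA ∧ isU a = false) := by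
  have h2' : (a : Perm (Fin 8)) * a = 1 := congrArg Subtype.val h2
  obtain ⟨g, hg, h⟩ := invol_classes a (Perm.mem_alternatingGroup.1 a.2) h2' (fun h => h1 (Subtype.ext h))
  refine ⟨el g hg, ?_⟩
  rcases h with ⟨e, hU⟩ | ⟨e, i, hi⟩
  · exact Or.inl ⟨Subtype.ext e, by simpa [isU, h2'] using hU⟩
  · refine Or.inr ⟨Subtype.ext e, ?_⟩
    rw [Bool.eq_false_iff]
    intro hU
    simp only [isU, Bool.and_eq_true, List.all_eq_true, decide_eq_true_eq] at hU
    exact hU.2 i (List.mem_finRange i) hi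

theorem isU_sq {a : A8} (h : isU a = true) : a * a = 1 ∧ a ≠ 1 := by
  simp only [isU, Bool.and_eq_true, List.all_eq_true, decide_eq_true_eq] at h
  refine ⟨Subtype.ext h.1, fun e => ?_⟩
  subst e
  exact h.2 0 (List.mem_finRange _) rfl

theorem conj_z {a : A8} (h : isU a = true) : ∃ g : G, g * ι zA * g⁻¹ = ι a := by
  obtain ⟨h2, h1⟩ := E.isU_sq h
  obtain ⟨b, hb | hb⟩ := E.classes h2 h1
  · refine ⟨(ι b)⁻¹, ?_⟩
    rw [← hb.1]; simp [mul_assoc]
  · rw [h] at hb; cases hb.2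

theorem conj_t {a : A8} (h : isU a = false) (h2 : a * a = 1) (h1 : a ≠ 1) : ∃ b : A8, ι b * ι tA * (ι b)⁻¹ = ι a := by
  obtain ⟨b, hb | hb⟩ := E.classes h2 h1
  · rw [h] at hb; cases hb.2
  · exact ⟨b⁻¹, by rw [← hb.1]; simp [mul_assoc]⟩

/-- The centraliser of a fixed-point-free involution lies in the image. -/
theorem cent_U {a : A8} (h : isU a = true) {g : G} (hg : g * ι a = ι a * g) : ∃ b, ι b = g := by
  obtain ⟨h2, h1⟩ := E.isU_sq h
  obtain ⟨b, hb | hb⟩ := E.classes h2 h1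
  · have e : ι zA = ι b * ι a * (ι b)⁻¹ := by rw [← hb.1, map_mul, map_mul, map_inv]
    obtain ⟨c, hc⟩ := E.cent (ι b * g * (ι b)⁻¹) (by
      rw [e]
      calc ι b * g * (ι b)⁻¹ * (ι b * ι a * (ι b)⁻¹) = ι b * (g * ι a) * (ι b)⁻¹ := by group
        _ = _ := by rw [hg]; group)
    exact ⟨b⁻¹ * c * b, by rw [map_mul, map_mul, map_inv, hc]; group⟩
  · rw [h] at hb; cases hb.2

/-- Conjugate images have the same type. -/
theorem isU_conj {a b : A8} (ha : a * a = 1) (hb : b * b = 1) {g : G} (h : g * ι a * g⁻¹ = ι b) :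
    isU a = isU b := by
  by_cases ha1 : a = 1
  · subst ha1
    have : b = 1 := E.inj (by rw [← h]; simp)
    rw [this]
  have hb1 : b ≠ 1 := fun e => ha1 (E.inj (by
    rw [map_one]
    calc ι a = g⁻¹ * (g * ι a * g⁻¹) * g := by group
      _ = 1 := by rw [h, e, map_one]; group))
  obtain ⟨c, hc⟩ := E.classes ha ha1
  obtain ⟨d, hd⟩ := E.classes hb hb1
  have key : ι d * g * (ι c)⁻¹ * ι (c * a * c⁻¹) * (ι d * g * (ι c)⁻¹)⁻¹ = ι (d * b * d⁻¹) := by
    simp only [map_mul, map_inv, ← h]; group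
  rcases hc with ⟨e1, u1⟩ | ⟨e1, u1⟩ <;> rcases hd with ⟨e2, u2⟩ | ⟨e2, u2⟩ <;> rw [e1, e2] at key
  · rw [u1, u2]
  · exact absurd key (E.nconj _)
  · refine absurd ?_ (E.nconj (ι d * g * (ι c)⁻¹)⁻¹)
    rw [← key]; group
  · rw [u1, u2]

/-- Every involution is conjugate to one of the representatives. -/
theorem invol_conj {x : G} (h2 : x * x = 1) (h1 : x ≠ 1) : ∃ g : G, g * x * g⁻¹ = ι zA ∨ g * x * g⁻¹ = ι tA := by
  obtain ⟨c, hc⟩ := E.two (Subgroup.zpowers x) (fun y => ⟨1, by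
    obtain ⟨y, n, rfl⟩ := y
    ext
    show (x ^ n) ^ (2 ^ 1) = 1
    rw [← zpow_natCast, ← zpow_mul, mul_comm, zpow_mul, show ((2 ^ 1 : ℕ) : ℤ) = 2 from rfl, zpow_two, h2, one_zpow]⟩)
  obtain ⟨a, ha⟩ := hc x (Subgroup.mem_zpowers x)
  have a2 : a * a = 1 := E.inj (by
    rw [map_mul, map_one, ha, show c * x * c⁻¹ * (c * x * c⁻¹) = c * (x * x) * c⁻¹ by group, h2]; group)
  have a1 : a ≠ 1 := fun e => h1 (by
    rw [e, map_one] at ha
    calc x = c⁻¹ * (c * x * c⁻¹) * c := by group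
      _ = 1 := by rw [← ha]; group)
  obtain ⟨b, hb | hb⟩ := E.classes a2 a1
  · exact ⟨ι b * c, Or.inl (by rw [← hb.1, map_mul, map_mul, map_inv, ha]; group)⟩
  · exact ⟨ι b * c, Or.inr (by rw [← hb.1, map_mul, map_mul, map_inv, ha]; group)⟩

/-- A subgroup given by a list of permutations. -/
theorem list_subgroup (l : List (Perm (Fin 8))) (h1 : (1 : Perm (Fin 8)) ∈ l)
    (hinv : ∀ a ∈ l, a⁻¹ ∈ l) (hmul : ∀ a ∈ l, ∀ b ∈ l, a * b ∈ l) :
    ∃ V : Subgroup G, ∀ g, g ∈ V ↔ ∃ a : A8, (a : Perm (Fin 8)) ∈ l ∧ ι a = g := by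
  refine ⟨{ carrier := {g | ∃ a : A8, (a : Perm (Fin 8)) ∈ l ∧ ι a = g}, one_mem' := ⟨1, h1, map_one ι⟩,
            mul_mem' := ?_, inv_mem' := ?_ }, fun g => Iff.rfl⟩
  · rintro _ _ ⟨a, ha, rfl⟩ ⟨b, hb, rfl⟩
    exact ⟨a * b, hmul _ ha _ hb, map_mul ι a b⟩
  · rintro _ ⟨a, ha, rfl⟩
    exact ⟨a⁻¹, hinv _ ha, map_inv ι a⟩

theorem card_list_subgroup {l : List (Perm (Fin 8))} (hnd : l.Nodup) (hev : ∀ a ∈ l, Perm.sign a = 1) {V : Subgroup G}
    (hV : ∀ g, g ∈ V ↔ ∃ a : A8, (a : Perm (Fin 8)) ∈ l ∧ ι a = g) : Nat.card V = l.length := by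
  classical
  refine (Nat.card_congr (Equiv.ofBijective (fun p : {p // p ∈ l.toFinset} =>
    (⟨ι (el p.1 (hev _ (List.mem_toFinset.1 p.2))), (hV _).2 ⟨_, List.mem_toFinset.1 p.2, rfl⟩⟩ : V))
    ⟨?_, ?_⟩)).symm.trans ?_
  · intro p q h
    exact Subtype.ext (E.eq_iff.1 (congrArg Subtype.val h))
  · rintro ⟨g, hg⟩
    obtain ⟨a, ha, rfl⟩ := (hV g).1 hg
    exact ⟨⟨_, List.mem_toFinset.2 ha⟩, rfl⟩
  · rw [Nat.card_eq_fintype_card, Fintype.card_coe, List.toFinset_card_of_nodup hnd]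

variable [Finite G]

/-- A 2-element normalising a list subgroup with an odd number of fixed-point-free involutions centralises one of
them. -/
theorem fixes_U {l : List (Perm (Fin 8))} (hev : ∀ a ∈ l, Perm.sign a = 1) (hnd : l.Nodup)
    (hodd : Odd (l.filter isU).length) {n : G} (hn : ∃ e, orderOf n = 2 ^ e)
    (hnorm : ∀ a : A8, (a : Perm (Fin 8)) ∈ l → ∃ b : A8, (b : Perm (Fin 8)) ∈ l ∧ ι b = n * ι a * n⁻¹) :
    ∃ c, ι c = n := by
  classical
  let α := {p // p ∈ (l.filter isU).toFinset}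
  have hm : ∀ x : α, x.1 ∈ l ∧ isU x.1 = true := fun x => List.mem_filter.1 (List.mem_toFinset.1 x.2)
  have step : ∀ x : α, ∃ y : α, ι (el y.1 (hev _ (hm y).1)) = n * ι (el x.1 (hev _ (hm x).1)) * n⁻¹ := by
    intro x
    obtain ⟨b, hb, e⟩ := hnorm (el x.1 (hev _ (hm x).1)) (hm x).1
    have h2 : (el x.1 (hev _ (hm x).1)) * (el x.1 (hev _ (hm x).1)) = 1 := (E.isU_sq (a := el x.1 _) (hm x).2).1
    have hb2 : b * b = 1 := E.inj (by
      rw [map_mul, e, map_one, show n * ι (el x.1 (hev _ (hm x).1)) * n⁻¹ * (n * ι (el x.1 (hev _ (hm x).1)) * n⁻¹) =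
        n * ι (el x.1 (hev _ (hm x).1) * el x.1 (hev _ (hm x).1)) * n⁻¹ by rw [map_mul]; group, h2, map_one]
      group)
    have hU : isU b = true := by
      rw [← E.isU_conj h2 hb2 e.symm]; exact (hm x).2
    exact ⟨⟨b.1, List.mem_toFinset.2 (List.mem_filter.2 ⟨hb, hU⟩)⟩, e⟩
  choose f hf using step
  have finj : Function.Injective f := by
    intro x y h
    have h1 := hf x
    rw [h, hf y] at h1
    exact Subtype.ext (E.eq_iff.1 (mul_left_cancel (mul_right_cancel h1))).symm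
  let σ : Equiv.Perm α := Equiv.ofBijective f ⟨finj, Finite.injective_iff_surjective.1 finj⟩
  have hpow : ∀ (m : ℕ) (x : α),
      ι (el ((σ ^ m) x).1 (hev _ (hm _).1)) = n ^ m * ι (el x.1 (hev _ (hm x).1)) * (n ^ m)⁻¹ := by
    intro m
    induction m with
    | zero => intro x; simp
    | succ m ih =>
      intro x
      have e1 : (σ ^ (m + 1)) x = f ((σ ^ m) x) := by rw [pow_succ']; rfl
      rw [pow_succ' n]
      have e2 := hf ((σ ^ m) x)
      rw [ih x] at e2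
      simp only [e1]
      rw [e2]; group
  obtain ⟨e, he⟩ := hn
  have hσ : σ ^ 2 ^ e = 1 := by
    refine Equiv.ext fun x => Subtype.ext ?_
    have h := hpow (2 ^ e) x
    rw [← he, pow_orderOf_eq_one, one_mul, inv_one, mul_one] at h
    rw [← he]
    exact E.eq_iff.1 h
  haveI : Fact (Nat.Prime 2) := ⟨Nat.prime_two⟩
  obtain ⟨x, hx⟩ := Equiv.Perm.exists_fixed_point_of_prime (p := 2) (α := α) (by
    rw [Fintype.card_coe, List.toFinset_card_of_nodup (hnd.filter _)]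
    exact fun h => (Nat.not_even_iff_odd.2 hodd) (even_iff_two_dvd.2 h)) hσ
  have e1 := hf x
  rw [show f x = x from hx] at e1
  exact E.cent_U (a := el x.1 _) (hm x).2 (eq_mul_inv_iff_mul_eq.1 e1).symm

/-- A list subgroup with an odd number of fixed-point-free involutions which is maximal in the image among the
2-subgroups centralising given elements bounds all of them. -/
theorem card_two_le {l : List (Perm (Fin 8))} (hev : ∀ a ∈ l, Perm.sign a = 1) (hnd : l.Nodup)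
    (hodd : Odd (l.filter isU).length) (hinv : ∀ a ∈ l, a⁻¹ ∈ l) (hmul : ∀ a ∈ l, ∀ b ∈ l, a * b ∈ l)
    (h1 : (1 : Perm (Fin 8)) ∈ l) (htwo : ∀ a ∈ l, a ^ 8 = 1) (C : Subgroup G)
    (hC : ∀ a : A8, (a : Perm (Fin 8)) ∈ l → ι a ∈ C)
    (hself : ∀ a : A8, ι a ∈ C → (∀ b : A8, (b : Perm (Fin 8)) ∈ l → ((a * b * a⁻¹ : A8) : Perm (Fin 8)) ∈ l) →
      (∃ k, orderOf a = 2 ^ k) → (a : Perm (Fin 8)) ∈ l)
    {P : Subgroup G} (hP : IsPGroup 2 P) (hPC : P ≤ C) : Nat.card P ≤ l.length := by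
  classical
  haveI : Fact (Nat.Prime 2) := ⟨Nat.prime_two⟩
  obtain ⟨V, hV⟩ := E.list_subgroup l h1 hinv hmul
  have hVC : V ≤ C := fun g hg => by obtain ⟨a, ha, rfl⟩ := (hV g).1 hg; exact hC a ha
  have hV2 : IsPGroup 2 V := by
    rintro ⟨g, hg⟩
    obtain ⟨a, ha, rfl⟩ := (hV g).1 hg
    refine ⟨3, Subtype.ext ?_⟩
    show ι a ^ 2 ^ 3 = 1
    rw [← map_pow, show a ^ 2 ^ 3 = 1 from Subtype.ext (htwo _ ha), map_one]
  obtain ⟨Q, hQ⟩ := IsPGroup.exists_le_sylow (G := C) (hV2.comap_subtype (K := C))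
  obtain ⟨R, hR⟩ := IsPGroup.exists_le_sylow (G := C) (hP.comap_subtype (K := C))
  have hPR : Nat.card P ≤ Nat.card (R : Subgroup C) :=
    Nat.card_congr (Subgroup.subgroupOfEquivOfLe hPC).toEquiv ▸ Subgroup.card_le_of_le hR
  have hQV : (Q : Subgroup C) = V.subgroupOf C := by
    by_contra hne
    have hlt : (V.subgroupOf C).subgroupOf (Q : Subgroup C) < ⊤ :=
      lt_top_iff_ne_top.2 fun h => hne (le_antisymm (Subgroup.subgroupOf_eq_top.1 h) hQ)
    haveI := Q.2.isNilpotent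
    obtain ⟨n, hn, hnV⟩ := SetLike.exists_of_lt (Group.normalizerCondition_of_isNilpotent _ hlt)
    rw [Subgroup.mem_normalizer_iff] at hn
    obtain ⟨k, hk⟩ := IsPGroup.iff_orderOf.1 Q.2 n
    have hk' : orderOf ((n : C) : G) = 2 ^ k := by rw [Subgroup.orderOf_coe, Subgroup.orderOf_coe, hk]
    have hnorm : ∀ a : A8, (a : Perm (Fin 8)) ∈ l →
        ∃ b : A8, (b : Perm (Fin 8)) ∈ l ∧ ι b = ((n : C) : G) * ι a * ((n : C) : G)⁻¹ := by
      intro a ha
      have hm : (⟨ι a, hC a ha⟩ : C) ∈ (Q : Subgroup C) := hQ ((hV _).2 ⟨a, ha, rfl⟩)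
      have h := (hn ⟨⟨ι a, hC a ha⟩, hm⟩).1 (show ι a ∈ V from (hV _).2 ⟨a, ha, rfl⟩)
      exact (hV _).1 h
    obtain ⟨c, hc⟩ := E.fixes_U hev hnd hodd ⟨k, hk'⟩ hnorm
    refine hnV (show ((n : C) : G) ∈ V from (hV _).2 ⟨c, hself c (hc ▸ (n : C).2) (fun b hb => ?_) ⟨k, ?_⟩, hc⟩)
    · obtain ⟨d, hd, e⟩ := hnorm b hb
      have : c * b * c⁻¹ = d := E.inj (by rw [map_mul, map_mul, map_inv, hc, e])
      rw [this]; exact hd
    · rw [← hk', ← hc, orderOf_injective ι E.inj]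
  rw [← E.card_list_subgroup hnd hev hV, ← Nat.card_congr (Subgroup.subgroupOfEquivOfLe hVC).toEquiv, ← hQV,
    Q.card_eq_multiplicity, ← R.card_eq_multiplicity]
  exact hPR

end Emb

end CfsgQS3.Split
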