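import Cfsg.Agent.Lib.QS3.Split.Transfer
import Cfsg.Agent.Lib.QS3.EMain
import Cfsg.Agent.S3277

/-!
Groups with an involution centraliser `Q.S₃`: an element of order three outside the alternating group of degree eight.
-/

set_option autoImplicit false
set_option maxRecDepth 100000
set_option linter.unusedSectionVars false

namespace CfsgQS3.Split

open Equiv

/-- The alternating group on the last four points. -/
def a4List : List (Perm (Fin 8)) := dList ++ dList.map (· * kP) ++ dList.map (· * (kP * kP))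

theorem cList_split : ∀ p ∈ cList, ∃ a ∈ sList, ∃ j ∈ ([1, kP, kP * kP] : List (Perm (Fin 8))), p = a * j := by
  intro p hp
  rcases List.mem_append.1 hp with hp | hp
  · rcases List.mem_append.1 hp with hp | hp
    · exact ⟨p, hp, 1, by simp, by simp⟩
    · obtain ⟨a, ha, rfl⟩ := List.mem_map.1 hp; exact ⟨a, ha, kP, by simp, rfl⟩
  · obtain ⟨a, ha, rfl⟩ := List.mem_map.1 hp; exact ⟨a, ha, kP * kP, by simp, rfl⟩

theorem mem_a4 {a j : Perm (Fin 8)} (ha : a ∈ dList) (hj : j ∈ ([1, kP, kP * kP] : List (Perm (Fin 8)))) :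
    a * j ∈ a4List := by
  simp only [List.mem_cons, List.not_mem_nil, or_false] at hj
  rcases hj with rfl | rfl | rfl
  · rw [mul_one]; exact List.mem_append_left _ (List.mem_append_left _ ha)
  · exact List.mem_append_left _ (List.mem_append_right _ (List.mem_map.2 ⟨a, ha, rfl⟩))
  · exact List.mem_append_right _ (List.mem_map.2 ⟨a, ha, rfl⟩)

theorem dList_U : ∀ d ∈ dList, d ≠ 1 → isU (tP * d) = true ∧ d * d = 1 ∧
    (∀ a ∈ a4List, a * d = d * a → a ∈ dList) ∧
    (∀ c ∈ dList, c ≠ 1 → ∃ j ∈ ([1, kP, kP * kP] : List (Perm (Fin 8))), j * d * j⁻¹ = c) := by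
  have h : (dList.all fun d => decide (d = 1) || (isU (tP * d) && decide (d * d = 1) &&
    (a4List.all fun a => decide (a * d ≠ d * a) || dList.contains a) &&
    (dList.all fun c => decide (c = 1) || ([1, kP, kP * kP] : List (Perm (Fin 8))).any fun j =>
      decide (j * d * j⁻¹ = c)))) = true := by decide +kernel
  intro d hd hd1
  have := List.all_eq_true.1 h d hd
  simp only [Bool.or_eq_true, decide_eq_true_eq, hd1, false_or, Bool.and_eq_true, List.all_eq_true,
    List.any_eq_true, List.contains_iff_mem] at this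
  obtain ⟨⟨⟨h1, h2⟩, h3⟩, h4⟩ := this
  exact ⟨h1, h2, fun a ha e => (h3 a ha).resolve_left (fun h => h e), fun c hc hc1 =>
    (h4 c hc).resolve_left hc1⟩

theorem a4_facts : a4List.Nodup ∧ a4List.length = 12 ∧ (a4List.all fun a => decide (Perm.sign a = 1)) = true ∧
    (cList.all fun p => decide (Perm.sign p = 1)) = true ∧ dList.Nodup := by decide +kernel

namespace Emb

variable {G : Type*} [Group G] [Finite G] {ι : A8 →* G} (E : Emb ι)
include E

theorem j_in {R1 : Subgroup G} (h3 : ∀ x ∈ E.R, x * x * x = 1 → x ∈ R1) {j : Perm (Fin 8)}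
    (hj : j ∈ ([1, kP, kP * kP] : List (Perm (Fin 8)))) : ∃ c : A8, (c : Perm (Fin 8)) = j ∧ ι c ∈ R1 := by
  have hk : ι kA ∈ R1 := h3 _ (E.image_R.2 (by decide +kernel)) (by
    rw [← map_mul, ← map_mul, ← map_one ι]; exact congrArg ι (Subtype.ext (by decide +kernel)))
  simp only [List.mem_cons, List.not_mem_nil, or_false] at hj
  rcases hj with rfl | rfl | rfl
  · exact ⟨1, rfl, by rw [map_one]; exact R1.one_mem⟩
  · exact ⟨kA, rfl, hk⟩
  · exact ⟨kA * kA, rfl, by rw [map_mul]; exact R1.mul_mem hk hk⟩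

/-- Outside the image the subgroup of index eight is an alternating group of degree five. -/
theorem exists_five (hR : ∃ r ∈ E.R, ∀ a, ι a ≠ r) : ∃ R1 : Subgroup G, R1 ≤ E.R ∧
    Nat.card E.R = 8 * Nat.card R1 ∧ (∀ x ∈ E.R, x * x * x = 1 → x ∈ R1) ∧
    (∀ a : A8, (a : Perm (Fin 8)) ∈ a4List → ι a ∈ R1) ∧ (∀ a : A8, ι a ∈ R1 → (a : Perm (Fin 8)) ∈ a4List) ∧
    (∃ x ∈ R1, ∀ a, ι a ≠ x) ∧ Nonempty (R1 ≃* alternatingGroup (Fin 5)) := by
  classical
  obtain ⟨R1, hle, hcard, h3, hD, hDi, m, hm, hm4⟩ := E.exists_R1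
  have ha4 : ∀ a : A8, (a : Perm (Fin 8)) ∈ a4List → ι a ∈ R1 := by
    intro a ha
    have key : ∀ b ∈ dList, ∀ j ∈ ([1, kP, kP * kP] : List (Perm (Fin 8))), (a : Perm (Fin 8)) = b * j → ι a ∈ R1 := by
      intro b hb j hj e
      obtain ⟨c, rfl, hc⟩ := E.j_in h3 hj
      rw [show a = el b (dList_in b hb).1 * c from Subtype.ext e, map_mul]
      exact R1.mul_mem (hD _ hb) hc
    rcases List.mem_append.1 ha with h | h
    · rcases List.mem_append.1 h with h | h
      · exact key _ h 1 (by simp) (by simp)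
      · obtain ⟨b, hb, e⟩ := List.mem_map.1 h; exact key b hb kP (by simp) e.symm
    · obtain ⟨b, hb, e⟩ := List.mem_map.1 h; exact key b hb (kP * kP) (by simp) e.symm
  have hin : ∀ a : A8, ι a ∈ R1 → (a : Perm (Fin 8)) ∈ a4List := by
    intro a ha
    obtain ⟨b, hb, j, hj, e⟩ := cList_split _ (E.image_R.1 (hle ha))
    obtain ⟨c, rfl, hc⟩ := E.j_in h3 hj
    rw [e]
    refine mem_a4 (hDi (el b (sList_even b hb)) hb ?_) hj
    have : ι (el b (sList_even b hb)) = ι a * (ι c)⁻¹ := by
      rw [show a = el b (sList_even b hb) * c from Subtype.ext e, map_mul, mul_inv_cancel_right]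
    rw [this]
    exact R1.mul_mem ha (R1.inv_mem hc)
  have hcent : ∀ d : A8, (d : Perm (Fin 8)) ∈ dList → d ≠ 1 → ∀ c ∈ R1, c * ι d = ι d * c →
      ∃ a : A8, (a : Perm (Fin 8)) ∈ dList ∧ ι a = c := by
    intro d hd hd1 c hc hcd
    obtain ⟨hU, -, hself, -⟩ := dList_U _ hd (fun h => hd1 (Subtype.ext h))
    obtain ⟨a, rfl⟩ := E.cent_U (a := tA * d) hU (g := c) (by
      rw [map_mul, ← mul_assoc, E.mem_R.1 (hle hc), mul_assoc, hcd, ← mul_assoc])
    exact ⟨a, hself _ (hin a hc) (E.comm_iff.1 hcd), rfl⟩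
  have hout : ∃ x ∈ R1, ∀ a, ι a ≠ x := by
    by_contra hno
    push Not at hno
    have h12 : Nat.card R1 ≤ 12 := by
      choose F hF using fun x : R1 => hno x x.2
      calc Nat.card R1 ≤ Nat.card {p // p ∈ a4List.toFinset} :=
            Nat.card_le_card_of_injective
              (fun x => ⟨(F x : Perm (Fin 8)), List.mem_toFinset.2 (hin _ (by rw [hF]; exact x.2))⟩)
              (fun x y h => Subtype.ext (by rw [← hF x, ← hF y]; exact E.eq_iff.2 (congrArg (fun z : {p // p ∈ a4List.toFinset} => z.1) h)))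
        _ = 12 := by
            rw [Nat.card_eq_fintype_card, Fintype.card_coe, List.toFinset_card_of_nodup a4_facts.1, a4_facts.2.1]
    obtain ⟨r, hr, hrn⟩ := hR
    have hev : ∀ p ∈ cList, Perm.sign p = 1 := fun p hp =>
      decide_eq_true_iff.1 (List.all_eq_true.1 a4_facts.2.2.2.1 p hp)
    let Fc : {p // p ∈ cList.toFinset} → E.R := fun p =>
      ⟨ι (el p.1 (hev _ (List.mem_toFinset.1 p.2))), E.image_R.2 (List.mem_toFinset.1 p.2)⟩
    have hi : Function.Injective Fc := fun p q h => Subtype.ext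
      ((E.eq_iff (a := el p.1 _) (b := el q.1 _)).1 (congrArg Subtype.val h))
    have hb : Function.Bijective Fc := (Nat.bijective_iff_injective_and_card Fc).2 ⟨hi, by
      refine le_antisymm (Nat.card_le_card_of_injective Fc hi) ?_
      rw [hcard, Nat.card_eq_fintype_card (α := {p // p ∈ cList.toFinset}), Fintype.card_coe,
        List.toFinset_card_of_nodup lists_card.1, lists_card.2.1]
      omega⟩
    obtain ⟨p, hp⟩ := hb.2 ⟨r, hr⟩
    exact hrn _ (congrArg Subtype.val hp)
  refine ⟨R1, hle, hcard, h3, ha4, hin, hout, ?_⟩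
  have hdd : ∀ a : A8, (a : Perm (Fin 8)) ∈ dList → a * a = 1 := fun a ha => by
    by_cases h : (a : Perm (Fin 8)) = 1
    · rw [show a = 1 from Subtype.ext h, mul_one]
    · exact Subtype.ext (dList_U _ ha h).2.1
  let dR : R1 := ⟨ι dA, hD dA (by decide +kernel)⟩
  let eR : R1 := ⟨ι eA, hD eA (by decide +kernel)⟩
  have hord : orderOf dR = 2 := by
    haveI : Fact (Nat.Prime 2) := ⟨Nat.prime_two⟩
    refine orderOf_eq_prime (Subtype.ext ?_) (fun h => ?_)
    · show ι dA ^ 2 = 1
      rw [← map_pow, pow_two, hdd dA (by decide +kernel), map_one]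
    · have : ι dA = ι 1 := (congrArg Subtype.val h).trans (map_one ι).symm
      exact absurd (E.eq_iff.1 this) (by decide +kernel)
  have hDe : ∀ p ∈ dList, Perm.sign p = 1 := fun p hp => (dList_in p hp).1
  obtain ⟨W, hW⟩ := E.list_subgroup dList (by decide +kernel)
    (fun a ha => by
      have := hdd (el a (hDe a ha)) ha
      rw [inv_eq_of_mul_eq_one_right (show a * a = 1 from congrArg Subtype.val this)]; exact ha)
    (by
      have h : (dList.all fun a => dList.all fun b => dList.contains (a * b)) = true := by decide +kernel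
      simpa using h)
  have hWle : W ≤ R1 := fun g hg => by obtain ⟨a, ha, rfl⟩ := (hW g).1 hg; exact hD a ha
  have hWc : Nat.card (W.subgroupOf R1) = 4 := by
    rw [Nat.card_congr (Subgroup.subgroupOfEquivOfLe hWle).toEquiv, E.card_list_subgroup a4_facts.2.2.2.2 hDe hW]
    rfl
  have hC : ∀ c : R1, c ∈ Subgroup.centralizer ({dR} : Set R1) ↔ c ∈ W.subgroupOf R1 := by
    intro c
    rw [Subgroup.mem_centralizer_singleton_iff]
    constructor
    · intro h
      exact (hW _).2 (hcent dA (by decide +kernel) (fun h => absurd (congrArg Subtype.val h) (by decide +kernel))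
        c c.2 (congrArg Subtype.val h))
    · intro h
      obtain ⟨a, ha, e⟩ := (hW _).1 h
      refine Subtype.ext ?_
      show (c : G) * ι dA = ι dA * c
      rw [show (c : G) = ι a from e.symm, E.comm_iff]
      have h : (dList.all fun p => decide (p * dP = dP * p)) = true := by decide +kernel
      exact decide_eq_true_iff.1 (List.all_eq_true.1 h _ ha)
  have hC' : Subgroup.centralizer ({dR} : Set R1) = W.subgroupOf R1 := SetLike.ext hC
  haveI : Fact (Nat.Prime 2) := ⟨Nat.prime_two⟩
  refine Cfsg.Agent.S3277.result dR hord (by rw [hC', hWc]) (fun c hc => ?_) ?_ ?_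
  · obtain ⟨a, ha, e⟩ := (hW _).1 ((hC c).1 hc)
    refine Subtype.ext ?_
    show (c : G) ^ 2 = 1
    rw [show (c : G) = ι a from e.symm, ← map_pow, pow_two, hdd a ha, map_one]
  · rintro ⟨P, N, hN, hcomp⟩
    have hP4 : Nat.card (P : Subgroup R1) = 4 := by
      obtain ⟨e, he⟩ := IsPGroup.iff_card.1 P.2
      have hd := Subgroup.card_subgroup_dvd_card (P : Subgroup R1)
      rw [he, hm4, show 4 * m = 2 ^ 2 * m from rfl] at hd
      have h1 := ((Nat.coprime_two_left.2 hm).pow_left e).dvd_of_dvd_mul_right hd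
      have h2 : 2 ^ 2 ≤ Nat.card (P : Subgroup R1) := by
        obtain ⟨Q, hQ⟩ := IsPGroup.exists_le_sylow (G := R1)
          (IsPGroup.of_card (p := 2) (n := 2) (hWc.trans (by norm_num)))
        rw [P.card_eq_multiplicity, ← Q.card_eq_multiplicity]
        exact (hWc.trans (by norm_num)).ge.trans (Subgroup.card_le_of_le hQ)
      have h3 := Nat.le_of_dvd (by norm_num) h1
      rw [he] at h2 ⊢
      omega
    have hNc := hcomp.card_mul
    rw [hP4, hm4] at hNc
    have hNodd : Odd (Nat.card N) := by rw [show Nat.card N = m by omega]; exact hm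
    have hfix : ∀ a : A8, (ha : (a : Perm (Fin 8)) ∈ dList) → a ≠ 1 → ∀ o ∈ N,
        (⟨ι a, hD a ha⟩ : R1) * o * (⟨ι a, hD a ha⟩ : R1)⁻¹ = o → o = 1 := by
      intro a ha ha1 o ho h
      have h' : (o : G) * ι a = ι a * o := by
        have := congrArg Subtype.val h
        exact (mul_inv_eq_iff_eq_mul.1 this).symm
      obtain ⟨b, hb, e⟩ := hcent a ha ha1 o o.2 h'
      have h2 : o * o = 1 := Subtype.ext (by
        show (o : G) * o = 1
        rw [← e, ← map_mul, hdd b hb, map_one])
      exact orderOf_eq_one_iff.1 (Nat.eq_one_of_dvd_coprimes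
        (Nat.coprime_two_left.2 (hNodd.of_dvd_nat (Subgroup.orderOf_dvd_natCard N ho)))
        (orderOf_dvd_of_pow_eq_one (by rw [sq, h2])) dvd_rfl)
    have hde : dR * eR = (⟨ι (dA * eA), hD _ (by decide +kernel)⟩ : R1) := Subtype.ext (map_mul ι dA eA).symm
    have hbot := CfsgQS3.odd_trivial (G := R1) hNodd (a := dR) (b := eR)
      (Subtype.ext (by show ι dA * ι dA = 1; rw [← map_mul, hdd dA (by decide +kernel), map_one]))
      (Subtype.ext (by show ι eA * ι eA = 1; rw [← map_mul, hdd eA (by decide +kernel), map_one]))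
      (fun o ho => ⟨hN.conj_mem o ho _, hN.conj_mem o ho _⟩)
      (by
        rw [hde]
        exact Subtype.ext (by show ι _ * ι _ = 1; rw [← map_mul, hdd _ (by decide +kernel), map_one]))
      (hfix dA (by decide +kernel) (fun h => absurd (congrArg Subtype.val h) (by decide +kernel)))
      (hfix eA (by decide +kernel) (fun h => absurd (congrArg Subtype.val h) (by decide +kernel)))
      (by
        intro o ho h
        rw [hde] at h
        exact hfix (dA * eA) (by decide +kernel) (fun h => absurd (congrArg Subtype.val h) (by decide +kernel)) o ho h)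
    rw [hbot, Subgroup.card_bot] at hNc
    have h4 : Nat.card R1 = 4 := by omega
    have hk := ha4 kA (by decide +kernel)
    have hk3 : orderOf (⟨ι kA, hk⟩ : R1) = 3 := by
      haveI : Fact (Nat.Prime 3) := ⟨Nat.prime_three⟩
      refine orderOf_eq_prime (Subtype.ext ?_) (fun h => ?_)
      · show ι kA ^ 3 = 1
        rw [← map_pow, ← map_one ι]; exact congrArg ι (Subtype.ext (by decide +kernel))
      · have : ι kA = ι 1 := (congrArg Subtype.val h).trans (map_one ι).symm
        exact absurd (E.eq_iff.1 this) (by decide +kernel)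
    have := orderOf_dvd_natCard (⟨ι kA, hk⟩ : R1)
    rw [hk3, h4] at this
    norm_num at this
  · intro F hF hFe
    have hFp : IsPGroup 2 F := fun x => ⟨1, Subtype.ext (hFe.2 _ x.2)⟩
    have hFW : F ≤ W.subgroupOf R1 := by
      haveI := hF
      have hP : IsPGroup 2 ↥(F ⊔ W.subgroupOf R1) :=
        IsPGroup.to_sup_of_normal_left hFp (IsPGroup.of_card (n := 2) (hWc.trans (by norm_num)))
      obtain ⟨e, he⟩ := IsPGroup.iff_card.1 hP
      have hd := Subgroup.card_subgroup_dvd_card (F ⊔ W.subgroupOf R1)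
      rw [he, hm4, show 4 * m = 2 ^ 2 * m from rfl] at hd
      have hle4 : Nat.card ↥(F ⊔ W.subgroupOf R1) ≤ Nat.card (W.subgroupOf R1) := by
        rw [he, hWc]
        exact Nat.le_of_dvd (by norm_num) (((Nat.coprime_two_left.2 hm).pow_left e).dvd_of_dvd_mul_right hd)
      rw [Subgroup.eq_of_le_of_card_ge (le_sup_right (a := F)) hle4]
      exact le_sup_left
    by_contra hcF
    have hne : F ≠ ⊥ := by rintro rfl; simp at hcF
    obtain ⟨f, hf, hf1⟩ := F.bot_or_exists_ne_one.resolve_left hne
    obtain ⟨a, ha, ea⟩ := (hW _).1 (hFW hf)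
    have ha1 : (a : Perm (Fin 8)) ≠ 1 := fun h => hf1 (Subtype.ext (by
      rw [show (f : G) = ι a from ea.symm, show a = 1 from Subtype.ext h, map_one]; rfl))
    -- all involutions of the four group lie in `F`
    have hall : ∀ c : A8, (c : Perm (Fin 8)) ∈ dList → ∀ h : ι c ∈ R1, (⟨ι c, h⟩ : R1) ∈ F := by
      intro c hc h
      by_cases hc1 : (c : Perm (Fin 8)) = 1
      · rw [show (⟨ι c, h⟩ : R1) = 1 from
          Subtype.ext ((congrArg ι (show c = 1 from Subtype.ext hc1)).trans (map_one ι))]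
        exact F.one_mem
      obtain ⟨j, hj, e⟩ := (dList_U _ ha ha1).2.2.2 _ hc hc1
      obtain ⟨b, rfl, hb⟩ := E.j_in h3 hj
      have e' : (⟨ι c, h⟩ : R1) = ⟨ι b, hb⟩ * f * (⟨ι b, hb⟩ : R1)⁻¹ := Subtype.ext (by
        show ι c = ι b * (f : G) * (ι b)⁻¹
        rw [show (f : G) = ι a from ea.symm, ← map_inv, ← map_mul, ← map_mul]; exact congrArg ι (Subtype.ext e.symm))
      rw [e']
      exact hF.conj_mem f hf _
    -- so the group normalises the four group
    obtain ⟨x, hx, hxn⟩ := hout
    have hm1 := hF.conj_mem _ (hall dA (by decide +kernel) (hD dA (by decide +kernel))) ⟨x, hx⟩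
    obtain ⟨c, hc, ec⟩ := (hW _).1 (hFW hm1)
    have ec' : ι c = x * ι dA * x⁻¹ := ec
    have hc1 : (c : Perm (Fin 8)) ≠ 1 := fun h => by
      have e0 : ι dA = ι 1 := by
        rw [map_one, show ι dA = x⁻¹ * (x * ι dA * x⁻¹) * x by group, ← ec', show c = 1 from Subtype.ext h, map_one]
        group
      exact absurd (E.eq_iff.1 e0) (by decide +kernel)
    obtain ⟨j, hj, e⟩ := (dList_U _ hc hc1).2.2.2 dP (by decide +kernel) (by decide +kernel)
    obtain ⟨b, rfl, hb⟩ := E.j_in h3 hj
    have hcomm : ι b * x * ι dA = ι dA * (ι b * x) := by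
      refine mul_inv_eq_iff_eq_mul.1 ?_
      rw [show ι b * x * ι dA * (ι b * x)⁻¹ = ι b * (x * ι dA * x⁻¹) * (ι b)⁻¹ by group, ← ec', ← map_inv,
        ← map_mul, ← map_mul]
      exact congrArg ι (Subtype.ext e)
    obtain ⟨a', -, e'⟩ := hcent dA (by decide +kernel) (fun h => absurd (congrArg Subtype.val h) (by decide +kernel))
      _ (R1.mul_mem hb hx) hcomm
    exact hxn (b⁻¹ * a') (by rw [map_mul, map_inv, e']; group)

/-- An element of order three outside the image, with its action on five cosets. -/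
theorem exists_x (hR : ∃ r ∈ E.R, ∀ a, ι a ≠ r) : ∃ x : G, x ∈ E.R ∧
    (let o : G ⧸ ι.range := ((1 : G) : G ⧸ ι.range)
     x • o ≠ o ∧ ι kA • x • o = x • o ∧ ι wA • x • o = x • o ∧ ι σA • x • o = x • o ∧
      x • x • o = ι dA • x • o ∧ x • ι dA • x • o = o ∧ x • ι eA • x • o = ι eA • x • o ∧
      x • ι (dA * eA) • x • o = ι (dA * eA) • x • o) ∧
    x * ι wA = ι wA * x ∧ x * ι σA = ι σA * x ∧
    x * ι (el (swap 0 6 * swap 1 7) (by decide)) = ι (el (swap 0 6 * swap 1 7) (by decide)) * x ∧
    Nat.card E.R = 480 := by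
  classical
  obtain ⟨R1, hle, hcard, h3, ha4, hin, ⟨x₀, hx₀, hx₀n⟩, ⟨iso⟩⟩ := E.exists_five hR
  have hev : ∀ p ∈ cList, Perm.sign p = 1 := fun p hp =>
    decide_eq_true_iff.1 (List.all_eq_true.1 a4_facts.2.2.2.1 p hp)
  have h60 : Nat.card R1 = 60 := by
    rw [Nat.card_congr iso.toEquiv, nat_card_alternatingGroup, Nat.card_fin]; rfl
  have hRc : Nat.card E.R = 480 := by rw [hcard, h60]
  set KR : Subgroup E.R := ι.range.subgroupOf E.R with hKR
  have hKc : Nat.card KR = 96 := by
    let Fc : {p // p ∈ cList.toFinset} → KR := fun p =>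
      ⟨⟨ι (el p.1 (hev _ (List.mem_toFinset.1 p.2))), E.image_R.2 (List.mem_toFinset.1 p.2)⟩, ⟨_, rfl⟩⟩
    have hb : Function.Bijective Fc := by
      refine ⟨fun p q h => Subtype.ext ((E.eq_iff (a := el p.1 _) (b := el q.1 _)).1
        (congrArg (fun z : KR => ((z : E.R) : G)) h)), ?_⟩
      rintro ⟨⟨g, hg⟩, hz⟩
      obtain ⟨a, ha⟩ := hz
      have ha' : ι a = g := ha
      subst ha'
      exact ⟨⟨_, List.mem_toFinset.2 (E.image_R.1 hg)⟩, rfl⟩
    rw [← Nat.card_congr (Equiv.ofBijective _ hb), Nat.card_eq_fintype_card, Fintype.card_coe,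
      List.toFinset_card_of_nodup lists_card.1, lists_card.2.1]
  set X := E.R ⧸ KR with hX
  letI : Fintype X := Fintype.ofFinite _
  have hX5 : Fintype.card X = 5 := by
    have := KR.card_mul_index
    rw [hKc, hRc, Subgroup.index_eq_card, Nat.card_eq_fintype_card] at this
    exact Nat.eq_of_mul_eq_mul_left (by norm_num : 0 < 96) this
  set π := MulAction.toPermHom E.R X with hπ
  set b0 : X := ((1 : E.R) : X) with hb0
  have hbase : ∀ r : E.R, r • b0 = b0 ↔ (r : G) ∈ ι.range := by
    intro r
    show ((r * 1 : E.R) : X) = ((1 : E.R) : X) ↔ _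
    rw [mul_one, eq_comm, QuotientGroup.eq, inv_one, one_mul]; rfl
  let inc : R1 →* E.R := Subgroup.inclusion hle
  have hinj : Function.Injective (π.comp inc) := by
    haveI : IsSimpleGroup R1 := by
      haveI := alternatingGroup.isSimpleGroup (α := Fin 5) (by simp)
      haveI : Nontrivial R1 := iso.toEquiv.nontrivial
      exact IsSimpleGroup.isSimpleGroup_of_surjective iso.symm.toMonoidHom iso.symm.surjective
    rw [← MonoidHom.ker_eq_bot_iff]
    refine (MonoidHom.normal_ker _).eq_bot_or_eq_top.resolve_right fun htop => ?_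
    have h1 : (⟨x₀, hx₀⟩ : R1) ∈ (π.comp inc).ker := htop ▸ Subgroup.mem_top _
    obtain ⟨a, ha⟩ := (hbase (inc ⟨x₀, hx₀⟩)).1 (DFunLike.congr_fun (MonoidHom.mem_ker.1 h1) b0)
    exact hx₀n a ha
  have hI : ∀ p ∈ a4List, ∃ a : A8, (a : Perm (Fin 8)) = p ∧ ι a ∈ R1 := fun p hp =>
    ⟨el p (decide_eq_true_iff.1 (List.all_eq_true.1 a4_facts.2.2.1 p hp)), rfl, ha4 _ hp⟩
  let aR : ∀ a : A8, (a : Perm (Fin 8)) ∈ cList → E.R := fun a h => ⟨ι a, E.image_R.2 h⟩
  have hK0 : ∀ (a : A8) (h : (a : Perm (Fin 8)) ∈ cList), aR a h • b0 = b0 := fun a h => (hbase _).2 ⟨a, rfl⟩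
  have hrel : ∀ (a b c : A8) (ha : (a : Perm (Fin 8)) ∈ cList) (hb : (b : Perm (Fin 8)) ∈ cList)
      (hc : (c : Perm (Fin 8)) ∈ cList) (y : X), (a : Perm (Fin 8)) * b = c * a →
      aR a ha • aR b hb • y = aR c hc • aR a ha • y := by
    intro a b c ha hb hc y e
    rw [smul_smul, smul_smul]
    congr 1
    exact Subtype.ext (by
      show ι a * ι b = ι c * ι a
      rw [← map_mul, ← map_mul]; exact congrArg ι (Subtype.ext e))
  let kR := aR kA (by decide +kernel)
  let dR := aR dA (by decide +kernel)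
  let eR := aR eA (by decide +kernel)
  let fR := aR (dA * eA) (by decide +kernel)
  let wR := aR wA (by decide +kernel)
  let sR := aR σA (by decide +kernel)
  -- the fixed point of the three-cycle
  obtain ⟨q, hqo, hkq⟩ : ∃ q, q ≠ b0 ∧ kR • q = q := by
    have hp : ∀ y, π kR y ≠ b0 ↔ y ≠ b0 := by
      intro y
      refine not_congr ⟨fun h => ?_, fun h => (congrArg (π kR) h).trans (hK0 kA (by decide +kernel))⟩
      exact MulAction.injective kR (h.trans (hK0 kA (by decide +kernel)).symm)
    let σ' : Equiv.Perm {y : X // y ≠ b0} := (π kR).subtypePerm hp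
    haveI : Fact (Nat.Prime 3) := ⟨Nat.prime_three⟩
    have hk3 : kR ^ 3 = 1 := Subtype.ext (by
      show ι kA ^ 3 = 1
      rw [← map_pow, ← map_one ι]; exact congrArg ι (Subtype.ext (by decide +kernel)))
    obtain ⟨⟨y, hy⟩, h⟩ := Equiv.Perm.exists_fixed_point_of_prime (p := 3) (n := 1) (σ := σ') (by
      rw [Fintype.card_subtype_compl, Fintype.card_subtype_eq, hX5]; norm_num) (by
      refine Equiv.ext fun y => Subtype.ext ?_
      show π kR (π kR (π kR y.1)) = y.1
      rw [← Equiv.Perm.mul_apply, ← map_mul, ← Equiv.Perm.mul_apply, ← map_mul, ← pow_two, ← pow_succ, hk3, map_one]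
      rfl)
    exact ⟨y, hy, congrArg Subtype.val h⟩
  have hnofix : dR • q ≠ q := by
    intro h
    have hall : ∀ a : A8, (ha : (a : Perm (Fin 8)) ∈ a4List) → (hc : (a : Perm (Fin 8)) ∈ cList) → aR a hc • q = q := by
      have hA : ∀ b : A8, (hb : (b : Perm (Fin 8)) ∈ dList) → aR b (dList_in _ hb).2.1 • q = q := by
        intro b hb
        by_cases hb1 : (b : Perm (Fin 8)) = 1
        · rw [show aR b (dList_in _ hb).2.1 = 1 from Subtype.ext (by
            show ι b = 1
            rw [show b = 1 from Subtype.ext hb1, map_one]), one_smul]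
        obtain ⟨j, hj, e⟩ := (dList_U dP (by decide +kernel) (by decide +kernel)).2.2.2 _ hb hb1
        simp only [List.mem_cons, List.not_mem_nil, or_false] at hj
        rcases hj with rfl | rfl | rfl
        · rw [show aR b (dList_in _ hb).2.1 = dR from Subtype.ext (congrArg ι (Subtype.ext
            (show (b : Perm (Fin 8)) = dP by simpa using e.symm)))]
          exact h
        · calc aR b (dList_in _ hb).2.1 • q = aR b (dList_in _ hb).2.1 • kR • q := by rw [hkq]
            _ = kR • dR • q := (hrel kA dA b (by decide +kernel) (by decide +kernel) (dList_in _ hb).2.1 q (by rw [← e]; show kP * dP = kP * dP * kP⁻¹ * kP; rw [inv_mul_cancel_right])).symm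
            _ = q := by rw [h, hkq]
        · calc aR b (dList_in _ hb).2.1 • q = aR b (dList_in _ hb).2.1 • aR (kA * kA) (by decide +kernel) • q := by
                rw [show aR (kA * kA) (by decide +kernel) = kR * kR from Subtype.ext (map_mul ι kA kA), mul_smul, hkq,
                  hkq]
            _ = aR (kA * kA) (by decide +kernel) • dR • q :=
                (hrel (kA * kA) dA b (by decide +kernel) (by decide +kernel) (dList_in _ hb).2.1 q (by rw [← e]; show kP * kP * dP = kP * kP * dP * (kP * kP)⁻¹ * (kP * kP); rw [inv_mul_cancel_right])).symm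
            _ = q := by
                rw [h, show aR (kA * kA) (by decide +kernel) = kR * kR from Subtype.ext (map_mul ι kA kA), mul_smul,
                  hkq, hkq]
      intro a ha hc
      obtain ⟨b, hb, j, hj, e⟩ : ∃ b ∈ dList, ∃ j ∈ ([1, kP, kP * kP] : List (Perm (Fin 8))),
          (a : Perm (Fin 8)) = b * j := by
        rcases List.mem_append.1 ha with h | h
        · rcases List.mem_append.1 h with h | h
          · exact ⟨_, h, 1, by simp, by simp⟩
          · obtain ⟨b, hb, e⟩ := List.mem_map.1 h; exact ⟨b, hb, _, by simp, e.symm⟩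
        · obtain ⟨b, hb, e⟩ := List.mem_map.1 h; exact ⟨b, hb, _, by simp, e.symm⟩
      obtain ⟨c, rfl, -⟩ := E.j_in h3 hj
      have hj' : (c : Perm (Fin 8)) ∈ cList ∧ ∀ h : (c : Perm (Fin 8)) ∈ cList, aR c h • q = q := by
        simp only [List.mem_cons, List.not_mem_nil, or_false] at hj
        rcases hj with h | h | h
        · refine ⟨h ▸ (by decide +kernel), fun hh => ?_⟩
          rw [show aR c hh = 1 from Subtype.ext (by show ι c = 1; rw [show c = 1 from Subtype.ext h, map_one]),
            one_smul]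
        · exact ⟨h ▸ (by decide +kernel), fun hh => by
            rw [show aR c hh = kR from Subtype.ext (congrArg ι (Subtype.ext h))]; exact hkq⟩
        · exact ⟨h ▸ (by decide +kernel), fun hh => by
            rw [show aR c hh = kR * kR from Subtype.ext ((congrArg ι (show c = kA * kA from Subtype.ext h)).trans
              (map_mul ι kA kA)), mul_smul, hkq, hkq]⟩
      rw [show aR a hc = aR (el b (dList_in b hb).1) (dList_in b hb).2.1 * aR c hj'.1 from Subtype.ext
        ((congrArg ι (show a = el b (dList_in b hb).1 * c from Subtype.ext e)).trans (map_mul ι _ _)), mul_smul,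
        hj'.2 hj'.1, hA _ hb]
    -- twelve elements fixing two points
    have hsub : ∀ p ∈ a4List, Perm.sign p = 1 ∧ p ∈ cList := by
      have h : (a4List.all fun p => decide (Perm.sign p = 1) && cList.contains p) = true := by decide +kernel
      simpa using h
    have hfix : ∀ (p : {p // p ∈ a4List.toFinset}) (y : X),
        (π (aR (el p.1 (hsub _ (List.mem_toFinset.1 p.2)).1) (hsub _ (List.mem_toFinset.1 p.2)).2) y ≠ b0 ∧
         π (aR (el p.1 (hsub _ (List.mem_toFinset.1 p.2)).1) (hsub _ (List.mem_toFinset.1 p.2)).2) y ≠ q) ↔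
        (y ≠ b0 ∧ y ≠ q) := by
      intro p y
      set r := aR (el p.1 (hsub _ (List.mem_toFinset.1 p.2)).1) (hsub _ (List.mem_toFinset.1 p.2)).2
      have h1 : r • b0 = b0 := hK0 (el p.1 _) (hsub _ (List.mem_toFinset.1 p.2)).2
      have h2 : r • q = q := hall (el p.1 _) (List.mem_toFinset.1 p.2) (hsub _ (List.mem_toFinset.1 p.2)).2
      exact and_congr (not_congr ⟨fun h => MulAction.injective r (h.trans h1.symm), fun h => by rw [h]; exact h1⟩)
        (not_congr ⟨fun h => MulAction.injective r (h.trans h2.symm), fun h => by rw [h]; exact h2⟩)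
    let Φ : {p // p ∈ a4List.toFinset} → Equiv.Perm {y : X // y ≠ b0 ∧ y ≠ q} := fun p =>
      (π (aR (el p.1 (hsub _ (List.mem_toFinset.1 p.2)).1) (hsub _ (List.mem_toFinset.1 p.2)).2)).subtypePerm (hfix p)
    have hΦ : Function.Injective Φ := by
      intro p p' hpp
      have hm : ∀ p : {p // p ∈ a4List.toFinset}, ι (el p.1 (hsub _ (List.mem_toFinset.1 p.2)).1) ∈ R1 := fun p =>
        ha4 _ (List.mem_toFinset.1 p.2)
      have e : (π.comp inc) ⟨_, hm p⟩ = (π.comp inc) ⟨_, hm p'⟩ := by
        refine Equiv.ext fun y => ?_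
        by_cases hy : y ≠ b0 ∧ y ≠ q
        · exact congrArg Subtype.val (DFunLike.congr_fun hpp ⟨y, hy⟩)
        · rw [not_and_or, not_not, not_not] at hy
          rcases hy with rfl | rfl
          · exact (hK0 (el p.1 _) (hsub _ (List.mem_toFinset.1 p.2)).2).trans
              (hK0 (el p'.1 _) (hsub _ (List.mem_toFinset.1 p'.2)).2).symm
          · exact (hall (el p.1 _) (List.mem_toFinset.1 p.2) (hsub _ (List.mem_toFinset.1 p.2)).2).trans
              (hall (el p'.1 _) (List.mem_toFinset.1 p'.2) (hsub _ (List.mem_toFinset.1 p'.2)).2).symm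
      exact Subtype.ext ((E.eq_iff (a := el p.1 _) (b := el p'.1 _)).1 (congrArg Subtype.val (hinj e)))
    have h1 := Nat.card_le_card_of_injective Φ hΦ
    rw [Nat.card_eq_fintype_card, Fintype.card_coe, List.toFinset_card_of_nodup a4_facts.1, a4_facts.2.1,
      Nat.card_perm] at h1
    have h3 : Nat.card {y : X // y ≠ b0 ∧ y ≠ q} ≤ 3 := by
      rw [Nat.card_eq_fintype_card, Fintype.card_subtype]
      have e : (Finset.univ.filter fun y : X => y ≠ b0 ∧ y ≠ q) = (Finset.univ.erase b0).erase q := by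
        ext y; simp [and_comm]
      rw [e, Finset.card_erase_of_mem (Finset.mem_erase.2 ⟨hqo, Finset.mem_univ _⟩),
        Finset.card_erase_of_mem (Finset.mem_univ _), Finset.card_univ, hX5]
    have := Nat.factorial_le h3
    rw [show Nat.factorial 3 = 6 from rfl] at this
    omega
  have hkd : kR • dR • q = eR • q := (hrel kA dA eA (by decide +kernel) (by decide +kernel) (by decide +kernel) q (by decide +kernel)).trans (by rw [hkq])
  have hke : kR • eR • q = fR • q := (hrel kA eA (dA * eA) (by decide +kernel) (by decide +kernel) (by decide +kernel) q (by decide +kernel)).trans (by rw [hkq])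
  have hkf : kR • fR • q = dR • q := (hrel kA (dA * eA) dA (by decide +kernel) (by decide +kernel) (by decide +kernel) q (by decide +kernel)).trans (by rw [hkq])
  have hne : eR • q ≠ q ∧ fR • q ≠ q := by
    constructor <;> intro h
    · exact hnofix (MulAction.injective kR (show kR • dR • q = kR • q by rw [hkd, h, hkq]))
    · have h' : eR • q = q := MulAction.injective kR (show kR • eR • q = kR • q by rw [hke, h, hkq])
      exact hnofix (MulAction.injective kR (show kR • dR • q = kR • q by rw [hkd, h', hkq]))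
  have hdist : dR • q ≠ eR • q ∧ dR • q ≠ fR • q ∧ eR • q ≠ fR • q := by
    have e1 : dR • eR • q = fR • q := by
      rw [smul_smul]; congr 1; exact Subtype.ext (map_mul ι dA eA).symm
    have e2 : dR • dR • q = q := by
      rw [smul_smul, show dR * dR = 1 from Subtype.ext (by
        show ι dA * ι dA = 1
        rw [← map_mul, ← map_one ι]; exact congrArg ι (Subtype.ext (by decide +kernel))), one_smul]
    refine ⟨fun h => hne.2 (by rw [← e1, ← h, e2]), fun h => hne.1 ?_, fun h => hnofix ?_⟩
    · rw [← e1] at h; exact (MulAction.injective dR h).symm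
    · rw [← e1] at h
      have : dR • eR • q = eR • q := h.symm
      refine MulAction.injective eR (show eR • dR • q = eR • q from ?_)
      rw [hrel eA dA dA (by decide +kernel) (by decide +kernel) (by decide +kernel) q (by decide +kernel)]; exact this
  have hne0 : ∀ (a : A8) (h : (a : Perm (Fin 8)) ∈ cList), aR a h • q ≠ b0 := fun a h e =>
    hqo (MulAction.injective (aR a h) (e.trans (hK0 a h).symm))
  let pts : Fin 5 → X := ![q, dR • q, eR • q, fR • q, b0]
  have hptsI : Function.Injective pts := by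
    obtain ⟨n1, n2, n3⟩ := hdist
    intro i j h
    fin_cases i <;> fin_cases j <;> simp [pts] at h ⊢ <;>
      first
      | exact hnofix h | exact hnofix h.symm | exact hne.1 h | exact hne.1 h.symm | exact hne.2 h | exact hne.2 h.symm
      | exact n1 h | exact n1 h.symm | exact n2 h | exact n2 h.symm | exact n3 h | exact n3 h.symm
      | exact hne0 dA (by decide +kernel) h | exact hne0 dA (by decide +kernel) h.symm
      | exact hne0 eA (by decide +kernel) h | exact hne0 eA (by decide +kernel) h.symm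
      | exact hne0 (dA * eA) (by decide +kernel) h | exact hne0 (dA * eA) (by decide +kernel) h.symm | exact hqo h | exact hqo h.symm
  have hptsB : Function.Bijective pts :=
    (Nat.bijective_iff_injective_and_card pts).2 ⟨hptsI, by rw [Nat.card_fin, Nat.card_eq_fintype_card, hX5]⟩
  let e5 : Fin 5 ≃ X := Equiv.ofBijective pts hptsB
  let ρ : E.R →* Perm (Fin 5) := (e5.symm.permCongrHom.toMonoidHom).comp π
  have hρ : ∀ (r : E.R) (i : Fin 5), pts (ρ r i) = r • pts i := by
    intro r i
    show e5 (e5.symm.permCongr (π r) i) = _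
    rw [Equiv.permCongr_apply, e5.apply_symm_apply, Equiv.symm_symm]; rfl
  have hρi : Function.Injective (ρ.comp inc) := fun a b h => hinj (by
    exact (e5.symm.permCongrHom).injective h)
  have hrange : (ρ.comp inc).range = alternatingGroup (Fin 5) := by
    refine Equiv.Perm.eq_alternatingGroup_of_index_eq_two ?_
    have h := (ρ.comp inc).range.card_mul_index
    rw [Nat.card_perm, Nat.card_fin, show Nat.card (ρ.comp inc).range = 60 by
      rw [← h60]; exact (Nat.card_congr (MonoidHom.ofInjective hρi).toEquiv).symm,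
      show Nat.factorial 5 = 120 from rfl] at h
    omega
  obtain ⟨⟨x, hx⟩, hxρ⟩ : (swap 0 4 * swap 0 1 : Perm (Fin 5)) ∈ (ρ.comp inc).range := by
    rw [hrange, Perm.mem_alternatingGroup]; decide
  set xR : E.R := ⟨x, hle hx⟩ with hxR
  have hxR' : ρ xR = swap 0 4 * swap 0 1 := hxρ
  have hact : ∀ (i j : Fin 5), (swap 0 4 * swap 0 1 : Perm (Fin 5)) i = j → xR • pts i = pts j := fun i j h => by
    rw [← hρ, hxR', h]
  have hxq : xR • b0 = q := hact 4 0 (by decide)
  have hwq : wR • q = q := by
    obtain ⟨i, hi⟩ := hptsB.2 (wR • q)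
    have hk : kR • wR • q = wR • q := (hrel kA wA wA (by decide +kernel) (by decide +kernel) (by decide +kernel) q (by decide +kernel)).trans (by rw [hkq])
    rw [← hi] at hk
    obtain ⟨n1, n2, n3⟩ := hdist
    fin_cases i <;> simp [pts] at hk hi
    · exact hi.symm
    · rw [hkd] at hk; exact absurd hk.symm n1
    · rw [hke] at hk; exact absurd hk.symm n3
    · rw [hkf] at hk; exact absurd hk n2
    · exact absurd hi.symm (hne0 wA (by decide +kernel))
  have hsq : sR • q = q := by
    obtain ⟨i, hi⟩ := hptsB.2 (sR • q)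
    have hkk : aR (kA * kA) (by decide +kernel) • q = q := by
      rw [show aR (kA * kA) (by decide +kernel) = kR * kR from Subtype.ext (map_mul ι kA kA), mul_smul, hkq, hkq]
    have hk : aR (kA * kA) (by decide +kernel) • sR • q = sR • q :=
      (hrel σA kA (kA * kA) (by decide +kernel) (by decide +kernel) (by decide +kernel) q (by decide +kernel)).symm.trans
        (congrArg (sR • ·) hkq)
    rw [← hi, show aR (kA * kA) (by decide +kernel) = kR * kR from Subtype.ext (map_mul ι kA kA), mul_smul] at hk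
    obtain ⟨n1, n2, n3⟩ := hdist
    fin_cases i <;> simp [pts] at hk hi
    · exact hi.symm
    · rw [hkd, hke] at hk; exact absurd hk.symm n2
    · rw [hke, hkf] at hk; exact absurd hk n1
    · rw [hkf, hkd] at hk; exact absurd hk n3
    · exact absurd hi.symm (hne0 σA (by decide +kernel))
  have hwd : ∀ (a : A8) (ha : (a : Perm (Fin 8)) ∈ cList), (wP * a = a * wP) → wR • aR a ha • q = aR a ha • q :=
    fun a ha e => (hrel wA a a (by decide +kernel) ha ha q e).trans (by rw [hwq])
  have hρw : ρ wR = 1 := by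
    refine Equiv.ext fun i => hptsI ?_
    rw [hρ]
    fin_cases i
    · exact hwq
    · exact hwd dA (by decide +kernel) (by decide +kernel)
    · exact hwd eA (by decide +kernel) (by decide +kernel)
    · exact hwd (dA * eA) (by decide +kernel) (by decide +kernel)
    · exact hK0 wA (by decide +kernel)
  have hρs : ρ sR = swap 2 3 := by
    refine Equiv.ext fun i => hptsI ?_
    rw [hρ]
    fin_cases i
    · exact hsq
    · exact (hrel σA dA dA (by decide +kernel) (by decide +kernel) (by decide +kernel) q (by decide +kernel)).trans (by rw [hsq]; rfl)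
    · exact (hrel σA eA (dA * eA) (by decide +kernel) (by decide +kernel) (by decide +kernel) q (by decide +kernel)).trans (by rw [hsq]; rfl)
    · exact (hrel σA (dA * eA) eA (by decide +kernel) (by decide +kernel) (by decide +kernel) q (by decide +kernel)).trans (by rw [hsq]; rfl)
    · exact hK0 σA (by decide +kernel)
  have hx3 : x * x * x = 1 := by
    have : (⟨x, hx⟩ : R1) * ⟨x, hx⟩ * ⟨x, hx⟩ = 1 := hρi (by
      rw [map_mul, map_mul, map_one, hxρ]; decide)
    exact congrArg Subtype.val this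
  have hcomm : ∀ g : E.R, ρ g * (swap 0 4 * swap 0 1) = (swap 0 4 * swap 0 1) * ρ g →
      x * (g : G) = (g : G) * x := by
    intro g hg
    have hy : (g : G) * x * (g : G)⁻¹ ∈ R1 := h3 _ (g * xR * g⁻¹ : E.R).2 (by
      rw [show (g : G) * x * (g : G)⁻¹ * ((g : G) * x * (g : G)⁻¹) * ((g : G) * x * (g : G)⁻¹) =
        (g : G) * (x * x * x) * (g : G)⁻¹ by group, hx3]; group)
    have e : (⟨_, hy⟩ : R1) = ⟨x, hx⟩ := hρi (by
      show ρ (g * xR * g⁻¹) = ρ xR
      rw [map_mul, map_mul, map_inv, hxR', hg, mul_inv_cancel_right])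
    exact (mul_inv_eq_iff_eq_mul.1 (congrArg Subtype.val e)).symm
  have hxw : x * ι wA = ι wA * x := hcomm wR (by rw [hρw, one_mul, mul_one])
  have hxs : x * ι σA = ι σA * x := hcomm sR (by rw [hρs]; decide)
  -- transfer the equations to the cosets in the group
  let Φ : X → G ⧸ ι.range := Quotient.map' (fun r : E.R => (r : G)) (fun a b h => by
    rw [QuotientGroup.leftRel_apply] at h ⊢; exact h)
  have hΦ : ∀ (r : E.R) (y : X), Φ (r • y) = (r : G) • Φ y := by
    intro r y
    induction y using QuotientGroup.induction_on with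
    | H y => rfl
  have hΦi : Function.Injective Φ := by
    intro a b h
    induction a using QuotientGroup.induction_on with
    | H a =>
    induction b using QuotientGroup.induction_on with
    | H b =>
      have h' : ((a : G) : G ⧸ ι.range) = ((b : G) : G ⧸ ι.range) := h
      exact QuotientGroup.eq.2 (show (a : G)⁻¹ * (b : G) ∈ ι.range from QuotientGroup.eq.1 h')
  have hΦq : Φ q = x • ((1 : G) : G ⧸ ι.range) := by rw [← hxq, hΦ]; rfl
  refine ⟨x, hle hx, ⟨?_, ?_, ?_, ?_, ?_, ?_, ?_, ?_⟩, hxw, hxs, ?_, hRc⟩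
  · rw [← hΦq]; exact fun h => hqo (hΦi h)
  · rw [← hΦq]; exact (hΦ kR q).symm.trans (by rw [hkq])
  · rw [← hΦq]; exact (hΦ wR q).symm.trans (by rw [hwq])
  · rw [← hΦq]; exact (hΦ sR q).symm.trans (by rw [hsq])
  · rw [← hΦq]; exact (hΦ xR q).symm.trans ((congrArg Φ (hact 0 1 (by decide))).trans (hΦ dR q))
  · rw [← hΦq]
    calc x • ι dA • Φ q = Φ (xR • dR • q) := by rw [hΦ, hΦ]
      _ = _ := congrArg Φ (hact 1 4 (by decide))
  · rw [← hΦq]
    calc x • ι eA • Φ q = Φ (xR • eR • q) := by rw [hΦ, hΦ]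
      _ = Φ (eR • q) := congrArg Φ (hact 2 2 (by decide))
      _ = _ := hΦ eR q
  · rw [← hΦq]
    calc x • ι (dA * eA) • Φ q = Φ (xR • fR • q) := by rw [hΦ, hΦ]
      _ = Φ (fR • q) := congrArg Φ (hact 3 3 (by decide))
      _ = _ := hΦ fR q
  · let b : A8 := el (swap 2 6 * swap 3 7) (by decide)
    have hbs : ι b * ι σA * (ι b)⁻¹ = ι tA := by
      rw [← map_inv, ← map_mul, ← map_mul]; exact congrArg ι (Subtype.ext (by decide +kernel))
    have hy : ι b * x * (ι b)⁻¹ ∈ E.R := E.mem_R.2 (by
      rw [← hbs]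
      calc ι b * x * (ι b)⁻¹ * (ι b * ι σA * (ι b)⁻¹) = ι b * (x * ι σA) * (ι b)⁻¹ := by group
        _ = _ := by rw [hxs]; group)
    have hy1 : ι b * x * (ι b)⁻¹ ∈ R1 := h3 _ hy (by
      rw [show ι b * x * (ι b)⁻¹ * (ι b * x * (ι b)⁻¹) * (ι b * x * (ι b)⁻¹) = ι b * (x * x * x) * (ι b)⁻¹ by group,
        hx3]; group)
    have hyw : ι b * x * (ι b)⁻¹ * ι wA = ι wA * (ι b * x * (ι b)⁻¹) := by
      have hy' : ι wA * (ι b * x * (ι b)⁻¹) * (ι wA)⁻¹ ∈ R1 := h3 _
        (wR * ⟨_, hy⟩ * wR⁻¹ : E.R).2 (by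
          rw [show ι wA * (ι b * x * (ι b)⁻¹) * (ι wA)⁻¹ * (ι wA * (ι b * x * (ι b)⁻¹) * (ι wA)⁻¹) *
            (ι wA * (ι b * x * (ι b)⁻¹) * (ι wA)⁻¹) = ι wA * ι b * (x * x * x) * (ι wA * ι b)⁻¹ by group, hx3]
          group)
      have e : (⟨_, hy'⟩ : R1) = ⟨_, hy1⟩ := hρi (by
        show ρ (wR * ⟨_, hy⟩ * wR⁻¹) = ρ ⟨_, hy⟩
        rw [map_mul, map_mul, map_inv, hρw, one_mul, inv_one, mul_one])
      exact (mul_inv_eq_iff_eq_mul.1 (congrArg Subtype.val e)).symm
    have hw2 : ι (el (swap 0 6 * swap 1 7) (by decide)) = (ι b)⁻¹ * ι wA * ι b := by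
      rw [← map_inv, ← map_mul, ← map_mul]; exact congrArg ι (Subtype.ext (by decide +kernel))
    rw [hw2]
    calc x * ((ι b)⁻¹ * ι wA * ι b) = (ι b)⁻¹ * (ι b * x * (ι b)⁻¹ * ι wA) * ι b := by group
      _ = _ := by rw [hyw]; group

end Emb

end CfsgQS3.Split
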