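import Cfsg.Agent.Lib.Basic
import Mathlib.GroupTheory.SpecificGroups.Alternating
import Mathlib.GroupTheory.Perm.Cycle.Type

/-!
Groups with an involution centraliser `Q.S₃`: the centraliser of a double transposition in the alternating group of
degree eight.
-/

set_option autoImplicit false
set_option maxRecDepth 100000

namespace CfsgQS3.Split

open Equiv

/-- The alternating group of degree eight. -/
abbrev A8 := alternatingGroup (Fin 8)

/-- Four disjoint transpositions. -/
def zP : Perm (Fin 8) := swap 0 1 * swap 2 3 * swap 4 5 * swap 6 7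
/-- The double transposition. -/
def tP : Perm (Fin 8) := swap 0 1 * swap 2 3
/-- A double transposition on the same points. -/
def wP : Perm (Fin 8) := swap 0 2 * swap 1 3
/-- A double transposition meeting both blocks. -/
def τP : Perm (Fin 8) := swap 0 1 * swap 4 5
/-- A second double transposition meeting both blocks. -/
def σP : Perm (Fin 8) := swap 0 1 * swap 6 7
/-- A double transposition off the first block. -/
def dP : Perm (Fin 8) := swap 4 5 * swap 6 7
/-- A second double transposition off the first block. -/
def eP : Perm (Fin 8) := swap 4 6 * swap 5 7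
/-- A three-cycle off the first block. -/
def kP : Perm (Fin 8) := swap 5 7 * swap 5 6

/-- The subgroup of order sixteen. -/
def aList : List (Perm (Fin 8)) :=
  [1, tP, wP, tP * wP].flatMap fun a => [1, dP, eP, dP * eP].map fun b => a * b

/-- The Sylow subgroup of order thirty-two. -/
def sList : List (Perm (Fin 8)) := aList ++ aList.map (· * τP)

/-- The subgroup of order eight. -/
def eList8 : List (Perm (Fin 8)) := [1, tP, τP, tP * τP].flatMap fun a => [a, a * dP]

/-- The centraliser. -/
def cList : List (Perm (Fin 8)) := sList ++ sList.map (· * kP) ++ sList.map (· * (kP * kP))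

/-- Fixed-point-free involution. -/
def isU (p : Perm (Fin 8)) : Bool :=
  decide (p * p = 1) && (List.finRange 8).all fun i => decide (p i ≠ i)

/-- The possible lists of images of a permutation commuting with the double transposition. -/
def cands : List (List (Fin 8)) :=
  ([0, 1, 2, 3] : List (Fin 8)).flatMap fun a => ([0, 1, 2, 3] : List (Fin 8)).flatMap fun b =>
    ([4, 5, 6, 7] : List (Fin 8)).flatMap fun c => ([4, 5, 6, 7] : List (Fin 8)).flatMap fun d =>
      ([4, 5, 6, 7] : List (Fin 8)).flatMap fun e => ([4, 5, 6, 7] : List (Fin 8)).filterMap fun f =>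
        let l := [a, tP a, b, tP b, c, d, e, f]
        if decide l.Nodup then some l else none

/-- The list of images. -/
def imgs (p : Perm (Fin 8)) : List (Fin 8) := (List.finRange 8).map p

theorem cands_ok : (cands.all fun l => (cList.map imgs).contains l ||
    ((cList.map fun p => imgs (p * swap 4 5)).contains l)) = true := by
  decide +kernel

theorem cList_even : (cList.all fun p => decide (Perm.sign p = 1 ∧ p * tP = tP * p)) = true := by decide +kernel

theorem imgs_inj {p q : Perm (Fin 8)} (h : imgs p = imgs q) : p = q :=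
  Equiv.ext fun i => List.map_inj_left.1 h i (List.mem_finRange i)

/-- The centraliser of the double transposition. -/
theorem mem_cList {p : Perm (Fin 8)} (hp : Perm.sign p = 1) (hc : p * tP = tP * p) : p ∈ cList := by
  have e : ∀ i, p (tP i) = tP (p i) := fun i => by
    rw [← Perm.mul_apply, hc, Perm.mul_apply]
  have hi : ∀ i : Fin 8, tP i = i ↔ 4 ≤ (i : ℕ) := by decide
  have hlow : ∀ i : Fin 8, (i : ℕ) < 4 → (p i : ℕ) < 4 := fun i h => by
    by_contra h'
    have h1 := (hi _).2 (not_lt.1 h')
    rw [← e, p.injective.eq_iff, hi] at h1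
    omega
  have hhigh : ∀ i : Fin 8, 4 ≤ (i : ℕ) → 4 ≤ (p i : ℕ) := fun i h => (hi _).1 (by rw [← e, (hi i).2 h])
  have lo : ∀ i : Fin 8, (i : ℕ) < 4 → i ∈ ([0, 1, 2, 3] : List (Fin 8)) := by decide
  have hh : ∀ i : Fin 8, 4 ≤ (i : ℕ) → i ∈ ([4, 5, 6, 7] : List (Fin 8)) := by decide
  have hmem : imgs p ∈ cands := by
    simp only [cands, List.mem_flatMap, List.mem_filterMap]
    refine ⟨p 0, lo _ (hlow 0 (by decide)), p 2, lo _ (hlow 2 (by decide)), p 4, hh _ (hhigh 4 (by decide)),
      p 5, hh _ (hhigh 5 (by decide)), p 6, hh _ (hhigh 6 (by decide)), p 7, hh _ (hhigh 7 (by decide)), ?_⟩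
    have h1 : p 1 = tP (p 0) := by rw [← e]; rfl
    have h3 : p 3 = tP (p 2) := by rw [← e]; rfl
    have he : imgs p = [p 0, tP (p 0), p 2, tP (p 2), p 4, p 5, p 6, p 7] := by
      rw [← h1, ← h3]; rfl
    have hnd : (imgs p).Nodup := (List.nodup_finRange 8).map p.injective
    rw [he] at hnd ⊢
    simp [hnd]
  have h := List.all_eq_true.1 cands_ok _ hmem
  simp only [Bool.or_eq_true, List.contains_iff_mem, List.mem_map] at h
  rcases h with ⟨q, hq, eq⟩ | ⟨q, hq, eq⟩
  · rwa [← imgs_inj eq]
  · exfalso
    have hs := congrArg Perm.sign (imgs_inj eq)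
    have hq' := decide_eq_true_iff.1 (List.all_eq_true.1 cList_even q hq)
    rw [map_mul, hp, hq'.1, Perm.sign_swap (by decide)] at hs
    exact absurd hs (by decide)

theorem cList_facts : (cList.all fun p =>
    (decide (p ^ 8 ≠ 1) || decide (p * wP ≠ wP * p) || aList.contains p) &&
    (decide (p * τP ≠ τP * p) || eList8.contains p) &&
    (decide (p * wP ≠ wP * p) || decide (p ^ 6 = 1))) = true := by decide +kernel

theorem lists_card : cList.Nodup ∧ cList.length = 96 ∧ sList.Nodup ∧ sList.length = 32 ∧ aList.Nodup ∧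
    aList.length = 16 ∧ eList8.Nodup ∧ eList8.length = 8 := by decide +kernel

theorem lists_closed : (aList.all fun a => decide (a * a = 1) && (aList.all fun b => aList.contains (a * b))) = true ∧
    (eList8.all fun a => decide (a * a = 1) && (eList8.all fun b => eList8.contains (a * b))) = true ∧
    (sList.all fun a => sList.contains a⁻¹ && (sList.all fun b => sList.contains (a * b))) = true ∧
    (sList.all fun a => cList.contains a) = true := by decide +kernel

theorem odd_counts : (aList.filter isU).length = 9 ∧ (eList8.filter isU).length = 1 ∧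
    (sList.filter isU).length = 9 := by decide +kernel

theorem sList_two : (sList.all fun p => decide (p ^ 8 = 1)) = true ∧
    (cList.all fun p => decide (p ^ 8 ≠ 1) || sList.contains p || decide (∃ a ∈ sList, p * a * p⁻¹ ∉ sList)) = true := by
  decide +kernel

/-- The involutions are conjugate to one of two representatives. -/
theorem invol_classes (p : Perm (Fin 8)) (hs : Perm.sign p = 1) (h2 : p * p = 1) (h1 : p ≠ 1) :
    ∃ g : Perm (Fin 8), Perm.sign g = 1 ∧
      ((g * p * g⁻¹ = zP ∧ ∀ i, p i ≠ i) ∨ (g * p * g⁻¹ = tP ∧ ∃ i, p i = i)) := by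
  classical
  haveI : Fact (Nat.Prime 2) := ⟨Nat.prime_two⟩
  have key : ∀ q : Perm (Fin 8), q ^ 2 = 1 → q.cycleType = Multiset.replicate q.cycleType.card 2 ∧
      q.support.card = 2 * q.cycleType.card := by
    intro q hq
    have h : q.cycleType = Multiset.replicate q.cycleType.card 2 :=
      Multiset.eq_replicate_card.2 fun i hi => by
        have ha := Perm.two_le_of_mem_cycleType hi
        have hb := Nat.le_of_dvd (by norm_num) ((Perm.dvd_of_mem_cycleType hi).trans (orderOf_dvd_of_pow_eq_one hq))
        omega
    refine ⟨h, ?_⟩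
    rw [← Perm.sum_cycleType]
    conv_lhs => rw [h]
    rw [Multiset.sum_replicate, smul_eq_mul, mul_comm]
  obtain ⟨hp, hcard⟩ := key p (by rw [pow_two, h2])
  generalize hk : p.cycleType.card = k at hp hcard
  have hle : 2 * k ≤ 8 := by rw [← hcard]; exact (Finset.card_le_univ _).trans (by simp)
  have hk0 : k ≠ 0 := fun h => h1 (Perm.cycleType_eq_zero.1 (Multiset.card_eq_zero.1 (hk.trans h)))
  have hev : Even k := by
    rw [Perm.sign_of_cycleType, hp, Multiset.sum_replicate, Multiset.card_replicate, smul_eq_mul] at hs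
    by_contra ho
    rw [Nat.not_even_iff_odd] at ho
    rw [(show Odd (k * 2 + k) by rcases ho with ⟨a, rfl⟩; exact ⟨3 * a + 1, by ring⟩).neg_one_pow] at hs
    exact absurd hs (by decide)
  have conj : ∀ q : Perm (Fin 8), q ^ 2 = 1 → q.support.card = p.support.card → q * swap 0 1 = swap 0 1 * q →
      ∃ g : Perm (Fin 8), Perm.sign g = 1 ∧ g * p * g⁻¹ = q := by
    intro q hq hc hcm
    obtain ⟨hq', hqc⟩ := key q hq
    have he : IsConj p q := Perm.isConj_iff_cycleType_eq.2 (by
      rw [hp, hq', show q.cycleType.card = k by omega])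
    obtain ⟨g, hg⟩ := isConj_iff.1 he
    rcases Int.units_eq_one_or (Perm.sign g) with h | h
    · exact ⟨g, h, hg⟩
    · refine ⟨swap 0 1 * g, by rw [map_mul, h, Perm.sign_swap (by decide)]; rfl, ?_⟩
      rw [show swap 0 1 * g * p * (swap 0 1 * g)⁻¹ = swap 0 1 * (g * p * g⁻¹) * (swap 0 1)⁻¹ by group, hg,
        ← hcm, mul_inv_cancel_right]
  obtain rfl | h4 : k = 2 ∨ k = 4 := by
    obtain ⟨a, ha⟩ := hev
    omega
  · obtain ⟨g, hg, e⟩ := conj tP (by decide) (by rw [hcard]; decide) (by decide)
    refine ⟨g, hg, Or.inr ⟨e, ?_⟩⟩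
    by_contra hn
    push Not at hn
    have : p.support = Finset.univ := Finset.eq_univ_of_forall fun i => Perm.mem_support.2 (hn i)
    rw [this] at hcard
    simp at hcard
  · obtain ⟨g, hg, e⟩ := conj zP (by decide) (by rw [hcard, h4]; decide) (by decide)
    refine ⟨g, hg, Or.inl ⟨e, fun i => Perm.mem_support.1 ?_⟩⟩
    have : p.support = Finset.univ := Finset.eq_univ_of_card _ (by rw [hcard, h4]; simp)
    rw [this]
    exact Finset.mem_univ i

end CfsgQS3.Split
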