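import Cfsg.Agent.Lib.QS3.Split.Emb
import Mathlib.GroupTheory.Transfer
import Mathlib.GroupTheory.GroupAction.Quotient
import Mathlib.GroupTheory.Perm.Cycle.Type

/-!
Groups with an involution centraliser `Q.S₃`: transfers in the centraliser of a double transposition.
-/

set_option autoImplicit false
set_option maxRecDepth 100000
set_option linter.unusedSectionVars false

namespace CfsgQS3.Split

open Equiv

/-- The four group off the first block. -/
def dList : List (Perm (Fin 8)) := [1, dP, eP, dP * eP]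

theorem aList_cases :
    (aList.all fun a => decide (a = 1 ∨ a = tP ∨ isU a = true ∨ isU (tP * a) = true ∨ a = wP ∨ a = tP * wP)) = true := by
  decide +kernel

theorem cList_exp : (cList.all fun p => decide (p ^ 24 = 1)) = true := by decide +kernel

theorem dList_comm : ∀ a ∈ dList, ∃ b ∈ dList, a = kP * b * kP⁻¹ * b⁻¹ := by
  have h : (dList.all fun a => dList.any fun b => decide (a = kP * b * kP⁻¹ * b⁻¹)) = true := by decide +kernel
  simpa using h

theorem aList_split : ∀ a ∈ aList, ∃ x ∈ ([1, tP, wP, tP * wP] : List (Perm (Fin 8))), ∃ y ∈ dList, a = x * y := by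
  have h : (aList.all fun a => ([1, tP, wP, tP * wP] : List (Perm (Fin 8))).any fun x => dList.any fun y =>
    decide (a = x * y)) = true := by decide +kernel
  intro a ha
  simpa only [List.any_eq_true, decide_eq_true_eq] using List.all_eq_true.1 h a ha

theorem aList_in : ∀ a ∈ aList, Perm.sign a = 1 ∧ a ∈ sList := by
  have h : (aList.all fun a => decide (Perm.sign a = 1) && sList.contains a) = true := by decide +kernel
  simpa using h

theorem sList_even : ∀ a ∈ sList, Perm.sign a = 1 := by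
  have h : (sList.all fun a => decide (Perm.sign a = 1)) = true := by decide +kernel
  simpa using h

theorem eList8_in : ∀ a ∈ eList8, Perm.sign a = 1 ∧ a * tP = tP * a ∧ a * τP = τP * a := by
  have h : (eList8.all fun a => decide (Perm.sign a = 1) && decide (a * tP = tP * a) &&
    decide (a * τP = τP * a)) = true := by decide +kernel
  simpa [and_assoc] using h

theorem aList_comm : ∀ a ∈ aList, a * wP = wP * a ∧ a * tP = tP * a := by
  have h : (aList.all fun a => decide (a * wP = wP * a) && decide (a * tP = tP * a)) = true := by decide +kernel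
  simpa using h

theorem dList_in : ∀ q ∈ dList, Perm.sign q = 1 ∧ q ∈ cList ∧ q ∈ aList := by
  have h : (dList.all fun q => decide (Perm.sign q = 1) && cList.contains q && aList.contains q) = true := by
    decide +kernel
  simpa [and_assoc] using h

theorem wList_in : ∀ q ∈ ([1, tP, wP, tP * wP] : List (Perm (Fin 8))), Perm.sign q = 1 ∧ q ∈ cList := by
  have h : (([1, tP, wP, tP * wP] : List (Perm (Fin 8))).all fun q => decide (Perm.sign q = 1) && cList.contains q) =
    true := by decide +kernel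
  simpa using h

/-- The element `w`. -/
def wA : A8 := el wP (by decide +kernel)
/-- The element `τ`. -/
def τA : A8 := el τP (by decide +kernel)
/-- The element `σ`. -/
def σA : A8 := el σP (by decide +kernel)
/-- The element `d`. -/
def dA : A8 := el dP (by decide +kernel)
/-- The element `e`. -/
def eA : A8 := el eP (by decide +kernel)
/-- The element `k`. -/
def kA : A8 := el kP (by decide +kernel)

/-- A hom to a 2-group kills elements of order three. -/
theorem hom_three {X Y : Type*} [Group X] [Group Y] (hY : IsPGroup 2 Y) (f : X →* Y) {x : X} (hx : x * x * x = 1) :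
    f x = 1 := by
  obtain ⟨k, hk⟩ := hY (f x)
  have h3 : f x ^ 3 = 1 := by rw [← map_pow, pow_succ, pow_two, hx, map_one]
  have hd := Nat.dvd_gcd (orderOf_dvd_of_pow_eq_one hk) (orderOf_dvd_of_pow_eq_one h3)
  rw [Nat.Coprime.gcd_eq_one (Nat.Coprime.pow_left k (by norm_num : Nat.Coprime 2 3))] at hd
  exact orderOf_eq_one_iff.1 (Nat.dvd_one.1 hd)

/-- A 2-group bounded by `2 ^ i` and meeting the bound gives an odd cofactor. -/
theorem card_odd {X : Type*} [Group X] [Finite X] {i : ℕ} (hle : ∀ P : Subgroup X, IsPGroup 2 P → Nat.card P ≤ 2 ^ i)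
    {V : Subgroup X} (hV : Nat.card V = 2 ^ i) : ∃ m, Odd m ∧ Nat.card X = 2 ^ i * m := by
  haveI : Fact (Nat.Prime 2) := ⟨Nat.prime_two⟩
  obtain ⟨Q, hQ⟩ := IsPGroup.exists_le_sylow (G := X) (IsPGroup.of_card (p := 2) hV)
  have h2 : Nat.card (Q : Subgroup X) = 2 ^ i :=
    le_antisymm (hle _ Q.2) (hV ▸ Subgroup.card_le_of_le hQ)
  refine ⟨(Q : Subgroup X).index, ?_, by rw [← h2]; exact (Subgroup.card_mul_index _).symm⟩
  rw [← Nat.not_even_iff_odd, even_iff_two_dvd]
  exact Q.not_dvd_index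

namespace Emb

variable {G : Type*} [Group G] [Finite G] {ι : A8 →* G} (E : Emb ι)
include E

/-- The centraliser of the double transposition. -/
def R (_ : Emb ι) : Subgroup G := Subgroup.centralizer ({ι tA} : Set G)

theorem mem_R {g : G} : g ∈ E.R ↔ g * ι tA = ι tA * g := Subgroup.mem_centralizer_singleton_iff

theorem image_R {a : A8} : ι a ∈ E.R ↔ (a : Perm (Fin 8)) ∈ cList := by
  rw [E.mem_R, E.comm_iff]
  refine ⟨fun h => mem_cList (Perm.mem_alternatingGroup.1 a.2) h, fun h => ?_⟩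
  exact (decide_eq_true_iff.1 (List.all_eq_true.1 cList_even _ h)).2

theorem order_eight {a : A8} (h : (a : Perm (Fin 8)) ∈ cList) (h2 : ∃ k, orderOf a = 2 ^ k) :
    (a : Perm (Fin 8)) ^ 8 = 1 := by
  obtain ⟨k, hk⟩ := h2
  have h24 : orderOf a ∣ 2 ^ 3 * 3 := orderOf_dvd_of_pow_eq_one (Subtype.ext (by
    simpa using decide_eq_true_iff.1 (List.all_eq_true.1 cList_exp _ h)))
  rw [hk] at h24
  have h8 : orderOf a ∣ 8 := hk ▸ (Nat.Coprime.pow_left k (by norm_num : Nat.Coprime 2 3)).dvd_of_dvd_mul_right h24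
  simpa using congrArg Subtype.val (orderOf_dvd_iff_pow_eq_one.1 h8)

theorem two_R {P : Subgroup G} (hP : IsPGroup 2 P) (hle : P ≤ E.R) : Nat.card P ≤ 32 := by
  obtain ⟨hs8, hself⟩ := sList_two
  obtain ⟨-, -, hS, hsub⟩ := lists_closed
  simp only [List.all_eq_true, decide_eq_true_eq, Bool.and_eq_true, List.contains_iff_mem] at hS hsub hs8
  refine (E.card_two_le sList_even lists_card.2.2.1 (by rw [odd_counts.2.2]; decide)
    (fun a ha => (hS a ha).1) (fun a ha b hb => (hS a ha).2 b hb) (by decide +kernel) (fun a ha => hs8 a ha) E.R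
    (fun a ha => E.image_R.2 (hsub _ ha)) (fun a haC hn h2 => ?_) hP hle).trans (le_of_eq lists_card.2.2.2.1)
  have hc := E.image_R.1 haC
  have h := List.all_eq_true.1 hself _ hc
  simp only [Bool.or_eq_true, decide_eq_true_eq, List.contains_iff_mem] at h
  rcases h with (h | h) | ⟨b, hb, h⟩
  · exact absurd (E.order_eight hc h2) h
  · exact h
  · exact absurd (hn (el b (sList_even b hb)) hb) h

theorem two_W {P : Subgroup G} (hP : IsPGroup 2 P)
    (hle : P ≤ E.R ⊓ Subgroup.centralizer ({ι wA} : Set G)) : Nat.card P ≤ 16 := by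
  obtain ⟨hA, -⟩ := lists_closed
  simp only [List.all_eq_true, decide_eq_true_eq, Bool.and_eq_true, List.contains_iff_mem] at hA
  refine (E.card_two_le (fun a ha => (aList_in a ha).1) lists_card.2.2.2.2.1 (by rw [odd_counts.1]; decide)
    (fun a ha => by rwa [inv_eq_of_mul_eq_one_right (hA a ha).1]) (fun a ha b hb => (hA a ha).2 b hb) (by decide +kernel)
    (fun a ha => (pow_mul a 2 4).trans (by rw [pow_two, (hA a ha).1, one_pow])) (E.R ⊓ Subgroup.centralizer ({ι wA} : Set G))
    (fun a ha => ⟨E.mem_R.2 (E.comm_iff.2 (aList_comm _ ha).2),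
      Subgroup.mem_centralizer_singleton_iff.2 (E.comm_iff.2 (aList_comm _ ha).1)⟩)
    (fun a haC _ h2 => ?_) hP hle).trans (le_of_eq lists_card.2.2.2.2.2.1)
  have hc := E.image_R.1 haC.1
  have h := List.all_eq_true.1 cList_facts _ hc
  simp only [Bool.and_eq_true, Bool.or_eq_true, decide_eq_true_eq, List.contains_iff_mem] at h
  exact h.1.1.resolve_left fun h' => h'.elim (fun h' => h' (E.order_eight hc h2))
    (fun h' => h' (E.comm_iff.1 (Subgroup.mem_centralizer_singleton_iff.1 haC.2)))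

theorem two_T {P : Subgroup G} (hP : IsPGroup 2 P)
    (hle : P ≤ E.R ⊓ Subgroup.centralizer ({ι τA} : Set G)) : Nat.card P ≤ 8 := by
  obtain ⟨-, hA, -⟩ := lists_closed
  simp only [List.all_eq_true, decide_eq_true_eq, Bool.and_eq_true, List.contains_iff_mem] at hA
  refine (E.card_two_le (fun a ha => (eList8_in a ha).1) lists_card.2.2.2.2.2.2.1
    (by rw [odd_counts.2.1]; decide)
    (fun a ha => by rwa [inv_eq_of_mul_eq_one_right (hA a ha).1]) (fun a ha b hb => (hA a ha).2 b hb) (by decide +kernel)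
    (fun a ha => (pow_mul a 2 4).trans (by rw [pow_two, (hA a ha).1, one_pow])) (E.R ⊓ Subgroup.centralizer ({ι τA} : Set G))
    (fun a ha => ⟨E.mem_R.2 (E.comm_iff.2 (eList8_in _ ha).2.1),
      Subgroup.mem_centralizer_singleton_iff.2 (E.comm_iff.2 (eList8_in _ ha).2.2)⟩)
    (fun a haC _ _ => ?_) hP hle).trans (le_of_eq lists_card.2.2.2.2.2.2.2)
  have h := List.all_eq_true.1 cList_facts _ (E.image_R.1 haC.1)
  simp only [Bool.and_eq_true, Bool.or_eq_true, decide_eq_true_eq, List.contains_iff_mem] at h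
  exact h.1.2.resolve_left fun h' => h' (E.comm_iff.1 (Subgroup.mem_centralizer_singleton_iff.1 haC.2))

/-- The abelian group of order sixteen in the image. -/
theorem exists_A : ∃ V : Subgroup G, Nat.card V = 16 ∧ V ≤ E.R ⊓ Subgroup.centralizer ({ι wA} : Set G) ∧
    (∀ g, g ∈ V ↔ ∃ a : A8, (a : Perm (Fin 8)) ∈ aList ∧ ι a = g) := by
  obtain ⟨hA, -⟩ := lists_closed
  simp only [List.all_eq_true, decide_eq_true_eq, Bool.and_eq_true, List.contains_iff_mem] at hA
  obtain ⟨V, hV⟩ := E.list_subgroup aList (by decide +kernel) (fun a ha => by rwa [inv_eq_of_mul_eq_one_right (hA a ha).1])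
    (fun a ha b hb => (hA a ha).2 b hb)
  refine ⟨V, by rw [E.card_list_subgroup lists_card.2.2.2.2.1 (fun a ha => (aList_in a ha).1) hV,
    lists_card.2.2.2.2.2.1], fun g hg => ?_, hV⟩
  obtain ⟨a, ha, rfl⟩ := (hV g).1 hg
  exact ⟨E.mem_R.2 (E.comm_iff.2 (aList_comm _ ha).2),
    Subgroup.mem_centralizer_singleton_iff.2 (E.comm_iff.2 (aList_comm _ ha).1)⟩

theorem card_R : ∃ m, Odd m ∧ Nat.card E.R = 32 * m := by
  obtain ⟨-, -, hS, hsub⟩ := lists_closed
  simp only [List.all_eq_true, Bool.and_eq_true, List.contains_iff_mem] at hS hsub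
  obtain ⟨V, hV⟩ := E.list_subgroup sList (by decide +kernel) (fun a ha => (hS a ha).1) (fun a ha b hb => (hS a ha).2 b hb)
  have hle : V ≤ E.R := fun g hg => by
    obtain ⟨a, ha, rfl⟩ := (hV g).1 hg; exact E.image_R.2 (hsub _ ha)
  refine card_odd (i := 5) (V := V.subgroupOf E.R) (fun P hP => ?_) ?_
  · refine le_trans (le_of_eq ?_) (E.two_R (hP.map E.R.subtype) (Subgroup.map_subtype_le P))
    exact (Subgroup.card_map_of_injective E.R.subtype_injective).symm
  · rw [Nat.card_congr (Subgroup.subgroupOfEquivOfLe hle).toEquiv,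
      E.card_list_subgroup lists_card.2.2.1 sList_even hV, lists_card.2.2.2.1]; rfl

theorem card_C_w : ∃ m, Odd m ∧
    Nat.card (E.R ⊓ Subgroup.centralizer ({ι wA} : Set G) : Subgroup G) = 16 * m := by
  obtain ⟨V, hc, hle, -⟩ := E.exists_A
  refine card_odd (i := 4) (V := V.subgroupOf _) (fun P hP => ?_) ?_
  · refine le_trans (le_of_eq ?_) (E.two_W (hP.map (Subgroup.subtype _)) (Subgroup.map_subtype_le P))
    exact (Subgroup.card_map_of_injective (Subgroup.subtype_injective _)).symm
  · rw [Nat.card_congr (Subgroup.subgroupOfEquivOfLe hle).toEquiv, hc]; rfl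

theorem fused_in_A {g : G} (hg : g ∈ E.R) {a b : A8} (ha : (a : Perm (Fin 8)) ∈ aList) (hb2 : b * b = 1)
    (hb : isU b = false) (htb : isU (tA * b) = false) (hb1 : b ≠ 1) (hbt : b ≠ tA)
    (hc : (b : Perm (Fin 8)) * tP = tP * b) (h : g * ι b * g⁻¹ = ι a) : a = wA ∨ a = tA * wA := by
  have ha2 : a * a = 1 := Subtype.ext (decide_eq_true_iff.1 (by
    have := List.all_eq_true.1 lists_closed.1 _ ha
    simp only [Bool.and_eq_true] at this; exact this.1))
  have hgt : g * ι tA * g⁻¹ = ι tA := mul_inv_eq_iff_eq_mul.2 (E.mem_R.1 hg)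
  have htb2 : tA * b * (tA * b) = 1 := Subtype.ext (by
    show tP * (b : Perm (Fin 8)) * (tP * b) = 1
    rw [← mul_assoc, mul_assoc tP, hc, ← mul_assoc, show tP * tP = 1 by decide, one_mul]
    exact congrArg Subtype.val hb2)
  have hac : (a : Perm (Fin 8)) * tP = tP * a := (aList_comm _ ha).2
  have hta2 : tA * a * (tA * a) = 1 := Subtype.ext (by
    show tP * (a : Perm (Fin 8)) * (tP * a) = 1
    rw [← mul_assoc, mul_assoc tP, hac, ← mul_assoc, show tP * tP = 1 by decide, one_mul]
    exact congrArg Subtype.val ha2)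
  have hU : isU a = false := (E.isU_conj hb2 ha2 h).symm.trans hb
  have htU : isU (tA * a) = false :=
    (E.isU_conj htb2 hta2 (g := g) (by
      rw [map_mul, map_mul, show g * (ι tA * ι b) * g⁻¹ = g * ι tA * g⁻¹ * (g * ι b * g⁻¹) by group, hgt, h])).symm.trans
      htb
  rcases decide_eq_true_iff.1 (List.all_eq_true.1 aList_cases _ ha) with e | e | e | e | e | e
  · exfalso
    have e' : a = 1 := Subtype.ext e
    refine hb1 (E.inj ?_)
    rw [map_one, show ι b = g⁻¹ * (g * ι b * g⁻¹) * g by group, h, e', map_one]; group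
  · exfalso
    have e' : a = tA := Subtype.ext e
    refine hbt (E.inj ?_)
    calc ι b = g⁻¹ * (g * ι b * g⁻¹) * g := by group
      _ = g⁻¹ * (g * ι tA * g⁻¹) * g := by rw [h, e', hgt]
      _ = ι tA := by group
  · rw [e] at hU; cases hU
  · exact absurd (htU.symm.trans e) (by decide)
  · exact Or.inl (Subtype.ext e)
  · exact Or.inr (Subtype.ext e)

theorem τ_not_into_A {g : G} (hg : g ∈ E.R) {a : A8} (ha : (a : Perm (Fin 8)) ∈ aList) :
    g * ι τA * g⁻¹ ≠ ι a := by
  intro h
  have hcase := E.fused_in_A hg ha (b := τA) (Subtype.ext (by decide +kernel)) (by decide +kernel) (by decide +kernel) (by decide +kernel) (by decide +kernel)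
    (by decide +kernel) h
  obtain ⟨V, hc, hle, hV⟩ := E.exists_A
  have hP : IsPGroup 2 (V.map (MulAut.conj g⁻¹).toMonoidHom) :=
    (IsPGroup.of_card (p := 2) (n := 4) hc).map _
  have hle' : V.map (MulAut.conj g⁻¹).toMonoidHom ≤ E.R ⊓ Subgroup.centralizer ({ι τA} : Set G) := by
    rintro _ ⟨v, hv, rfl⟩
    obtain ⟨hvR, hvw⟩ := hle hv
    have hvw' := Subgroup.mem_centralizer_singleton_iff.1 hvw
    have hvt := E.mem_R.1 hvR
    refine ⟨?_, Subgroup.mem_centralizer_singleton_iff.2 ?_⟩
    · show g⁻¹ * v * g⁻¹⁻¹ ∈ E.R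
      exact E.R.mul_mem (E.R.mul_mem (E.R.inv_mem hg) hvR) (by rw [inv_inv]; exact hg)
    · show g⁻¹ * v * g⁻¹⁻¹ * ι τA = ι τA * (g⁻¹ * v * g⁻¹⁻¹)
      have hva : v * ι a = ι a * v := by
        rcases hcase with rfl | rfl
        · exact hvw'
        · rw [map_mul, ← mul_assoc, hvt, mul_assoc, hvw', mul_assoc]
      rw [show ι τA = g⁻¹ * ι a * g by rw [← h]; group,
        show g⁻¹ * v * g⁻¹⁻¹ * (g⁻¹ * ι a * g) = g⁻¹ * (v * ι a) * g by group, hva]
      group
  have h8 := E.two_T hP hle'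
  rw [Subgroup.card_map_of_injective (MulAut.conj g⁻¹).injective, hc] at h8
  omega

/-- The subgroup of index eight in the centraliser. -/
theorem exists_R1 : ∃ R1 : Subgroup G, R1 ≤ E.R ∧ Nat.card E.R = 8 * Nat.card R1 ∧
    (∀ x ∈ E.R, x * x * x = 1 → x ∈ R1) ∧ (∀ a : A8, (a : Perm (Fin 8)) ∈ dList → ι a ∈ R1) ∧
    (∀ a : A8, (a : Perm (Fin 8)) ∈ sList → ι a ∈ R1 → (a : Perm (Fin 8)) ∈ dList) ∧
    ∃ m, Odd m ∧ Nat.card R1 = 4 * m := by
  classical
  obtain ⟨V, hVc, hVle, hV⟩ := E.exists_A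
  have hVR : V ≤ E.R := hVle.trans inf_le_left
  have hAi : ∀ a : A8, (a : Perm (Fin 8)) ∈ aList → ι a ∈ E.R := fun a ha => hVR ((hV _).2 ⟨a, ha, rfl⟩)
  set Rt := ↥E.R with hRt
  let AR : Subgroup E.R := V.subgroupOf E.R
  have hARc : Nat.card AR = 16 := by rw [Nat.card_congr (Subgroup.subgroupOfEquivOfLe hVR).toEquiv, hVc]
  obtain ⟨m, hm, hRc⟩ := E.card_R
  have hidx : AR.index = 2 * m := by
    have := AR.card_mul_index
    rw [hARc, hRc] at this; omega
  letI : Fintype (E.R ⧸ AR) := Fintype.ofFinite _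
  let f : E.R →* ℤˣ := Perm.sign.comp (MulAction.toPermHom E.R (E.R ⧸ AR))
  -- the value at an involution
  have hval : ∀ x : E.R, x * x = 1 → f x = (-1) ^ ((2 * m -
      Nat.card (Function.fixedPoints (MulAction.toPermHom E.R (E.R ⧸ AR) x))) / 2) := by
    intro x hx
    have hsq : (MulAction.toPermHom E.R (E.R ⧸ AR) x) ^ 2 = 1 := by rw [← map_pow, pow_two, hx, map_one]
    show Perm.sign _ = _
    rw [Perm.sign_of_pow_two_eq_one hsq, Nat.card_eq_fintype_card, ← hidx, Subgroup.index_eq_card,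
      Nat.card_eq_fintype_card]
  have hfix : ∀ (x : E.R) (r : E.R), (r : E.R ⧸ AR) ∈ Function.fixedPoints (MulAction.toPermHom E.R (E.R ⧸ AR) x) ↔
      ((r : G)⁻¹ * x * r) ∈ V := by
    intro x r
    show ((x * r : E.R) : E.R ⧸ AR) = (r : E.R ⧸ AR) ↔ _
    rw [eq_comm, QuotientGroup.eq, ← mul_assoc]
    rfl
  let tR : E.R := ⟨ι τA, E.image_R.2 (by decide +kernel)⟩
  let wR : E.R := ⟨ι wA, E.image_R.2 (by decide +kernel)⟩
  have hτ : f tR = -1 := by
    have h2 : tR * tR = 1 := Subtype.ext (by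
      show ι τA * ι τA = 1
      rw [← map_mul, show τA * τA = 1 from Subtype.ext (by decide +kernel), map_one])
    rw [hval _ h2]
    have : IsEmpty (Function.fixedPoints (MulAction.toPermHom E.R (E.R ⧸ AR) tR)) := by
      refine ⟨fun ⟨q, hq⟩ => ?_⟩
      induction q using QuotientGroup.induction_on with
      | H r =>
        obtain ⟨a, ha, e⟩ := (hV _).1 ((hfix _ r).1 hq)
        exact E.τ_not_into_A (E.R.inv_mem r.2) ha (by rw [inv_inv]; exact e.symm)
    rw [Nat.card_of_isEmpty, Nat.sub_zero, Nat.mul_div_cancel_left _ two_pos, hm.neg_one_pow]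
  -- the subgroup preserving the pair
  have hwτ : ι τA * ι wA * (ι τA)⁻¹ = ι tA * ι wA := by
    rw [← map_inv, ← map_mul, ← map_mul, ← map_mul]
    exact congrArg ι (Subtype.ext (by decide +kernel))
  have hN : ∀ r : E.R, (r : G)⁻¹ * ι wA * r ∈ V ↔ (r : G)⁻¹ * ι wA * r = ι wA ∨ (r : G)⁻¹ * ι wA * r = ι tA * ι wA := by
    intro r
    constructor
    · intro h
      obtain ⟨a, ha, e⟩ := (hV _).1 h
      rcases E.fused_in_A (E.R.inv_mem r.2) ha (b := wA) (Subtype.ext (by decide +kernel)) (by decide +kernel) (by decide +kernel) (by decide +kernel)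
        (by decide +kernel) (by decide +kernel) (by rw [inv_inv]; exact e.symm) with rfl | rfl
      · exact Or.inl e.symm
      · exact Or.inr (by rw [← map_mul]; exact e.symm)
    · rintro (h | h) <;> rw [h]
      · exact (hV _).2 ⟨wA, by decide, rfl⟩
      · exact (hV _).2 ⟨tA * wA, by decide, map_mul ι _ _⟩
  obtain ⟨j, hj, hCc⟩ := E.card_C_w
  let CW : Subgroup E.R := (E.R ⊓ Subgroup.centralizer ({ι wA} : Set G)).subgroupOf E.R
  have hCWc : Nat.card CW = 16 * j := by
    rw [Nat.card_congr (Subgroup.subgroupOfEquivOfLe (inf_le_left)).toEquiv, hCc]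
  have hmemC : ∀ r : E.R, r ∈ CW ↔ (r : G)⁻¹ * ι wA * r = ι wA := fun r => by
    show (r : G) ∈ E.R ⊓ Subgroup.centralizer ({ι wA} : Set G) ↔ _
    rw [Subgroup.mem_inf, Subgroup.mem_centralizer_singleton_iff, mul_assoc, inv_mul_eq_iff_eq_mul]
    exact ⟨fun h => h.2.symm, fun h => ⟨r.2, h.symm⟩⟩
  have hAC : AR ≤ CW := fun r hr => by
    show (r : G) ∈ E.R ⊓ Subgroup.centralizer ({ι wA} : Set G)
    exact hVle hr
  have hcount : Nat.card (Function.fixedPoints (MulAction.toPermHom E.R (E.R ⧸ AR) wR)) = 2 * j := by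
    let F : CW ⧸ AR.subgroupOf CW → E.R ⧸ AR := Quotient.map' (fun c => (c : E.R)) (fun a b h => by
      rw [QuotientGroup.leftRel_apply] at h ⊢; exact h)
    have hFi : Function.Injective F := by
      intro a b h
      induction a using QuotientGroup.induction_on with
      | H a =>
      induction b using QuotientGroup.induction_on with
      | H b =>
        have h' : ((a : E.R) : E.R ⧸ AR) = ((b : E.R) : E.R ⧸ AR) := h
        exact QuotientGroup.eq.2 (show (a : E.R)⁻¹ * (b : E.R) ∈ AR from QuotientGroup.eq.1 h')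
    have hτ' : (ι τA)⁻¹ = ι τA := by rw [← map_inv]; exact congrArg ι (Subtype.ext (by decide +kernel))
    have htw : ι τA * ι tA * ι τA = ι tA := by
      rw [← map_mul, ← map_mul]; exact congrArg ι (Subtype.ext (by decide +kernel))
    have hττ : ι τA * ι τA = 1 := by
      rw [← map_mul, ← map_one ι]; exact congrArg ι (Subtype.ext (by decide +kernel))
    rw [hτ'] at hwτ
    let Φ : (CW ⧸ AR.subgroupOf CW) ⊕ (CW ⧸ AR.subgroupOf CW) → E.R ⧸ AR :=
      Sum.elim F fun c => tR • F c
    have hFc : ∀ a : CW, F (a : CW ⧸ AR.subgroupOf CW) = ((a : E.R) : E.R ⧸ AR) := fun _ => rfl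
    have hsep : ∀ a b : CW, ((a : E.R) : E.R ⧸ AR) ≠ ((tR * b : E.R) : E.R ⧸ AR) := by
      intro a b h
      have h1 : (a : E.R)⁻¹ * (tR * b) ∈ CW := hAC (QuotientGroup.eq.1 h)
      have h2 : tR ∈ CW := by
        have := CW.mul_mem (CW.mul_mem a.2 h1) (CW.inv_mem b.2)
        rwa [show (a : E.R) * ((a : E.R)⁻¹ * (tR * b)) * (b : E.R)⁻¹ = tR by group] at this
      have h3 : (ι τA)⁻¹ * ι wA * ι τA = ι wA := (hmemC tR).1 h2
      rw [hτ', hwτ, mul_eq_right, ← map_one ι, E.eq_iff] at h3
      exact absurd h3 (by decide +kernel)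
    have hΦi : Function.Injective Φ := by
      rintro (a | a) (b | b) h
      · exact congrArg Sum.inl (hFi h)
      · induction a using QuotientGroup.induction_on with
        | H a =>
        induction b using QuotientGroup.induction_on with
        | H b => exact absurd h (hsep a b)
      · induction a using QuotientGroup.induction_on with
        | H a =>
        induction b using QuotientGroup.induction_on with
        | H b => exact absurd h.symm (hsep b a)
      · exact congrArg Sum.inr (hFi (MulAction.injective tR h))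
    have hrange : Set.range Φ = Function.fixedPoints (MulAction.toPermHom E.R (E.R ⧸ AR) wR) := by
      ext q
      induction q using QuotientGroup.induction_on with
      | H r =>
        rw [hfix]
        show _ ↔ (r : G)⁻¹ * ι wA * r ∈ V
        rw [hN]
        constructor
        · rintro ⟨c | c, hc⟩ <;> induction c using QuotientGroup.induction_on with | H c => ?_
          · have h1 : (c : E.R)⁻¹ * r ∈ CW := hAC (QuotientGroup.eq.1 hc)
            have := CW.mul_mem c.2 h1
            rw [mul_inv_cancel_left] at this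
            exact Or.inl ((hmemC r).1 this)
          · have h1 : (tR * c : E.R)⁻¹ * r ∈ CW := hAC (QuotientGroup.eq.1 hc)
            have h2 := CW.mul_mem c.2 h1
            rw [mul_inv_rev, mul_assoc, mul_inv_cancel_left] at h2
            have h3 : ((ι τA)⁻¹ * (r : G))⁻¹ * ι wA * ((ι τA)⁻¹ * (r : G)) = ι wA := (hmemC _).1 h2
            rw [hτ'] at h3
            refine Or.inr ?_
            have hrt : (r : G)⁻¹ * ι tA * r = ι tA := by
              rw [mul_assoc, inv_mul_eq_iff_eq_mul]; exact (E.mem_R.1 r.2).symm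
            calc (r : G)⁻¹ * ι wA * r
                = (r : G)⁻¹ * ι τA * (ι τA * ι wA * ι τA) * (ι τA * r) := by
                  rw [show (r : G)⁻¹ * ι τA * (ι τA * ι wA * ι τA) * (ι τA * r) =
                    (r : G)⁻¹ * (ι τA * ι τA) * ι wA * (ι τA * ι τA) * r by group, hττ]; group
              _ = (r : G)⁻¹ * (ι τA * ι tA * ι τA) * r * ((r : G)⁻¹ * ι τA * ι wA * (ι τA * r)) := by
                  rw [hwτ]
                  rw [show (r : G)⁻¹ * (ι τA * ι tA * ι τA) * r * ((r : G)⁻¹ * ι τA * ι wA * (ι τA * r)) =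
                    (r : G)⁻¹ * ι τA * ι tA * (ι τA * ι τA) * ι wA * (ι τA * r) by group, hττ]
                  group
              _ = ι tA * ι wA := by
                  rw [htw, hrt, show (r : G)⁻¹ * ι τA * ι wA * (ι τA * r) = (ι τA * r)⁻¹ * ι wA * (ι τA * r) by
                    rw [mul_inv_rev, hτ'], h3]
        · rintro (h | h)
          · exact ⟨Sum.inl ((⟨r, (hmemC r).2 h⟩ : CW) : CW ⧸ AR.subgroupOf CW), rfl⟩
          · have hm : tR * r ∈ CW := (hmemC _).2 (by
              show (ι τA * (r : G))⁻¹ * ι wA * (ι τA * r) = ι wA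
              rw [mul_inv_rev, hτ', show (r : G)⁻¹ * ι τA * ι wA * (ι τA * r) = (r : G)⁻¹ * (ι τA * ι wA * ι τA) * r by
                group, hwτ, show (r : G)⁻¹ * (ι tA * ι wA) * r = ((r : G)⁻¹ * ι tA * r) * ((r : G)⁻¹ * ι wA * r) by group,
                h, mul_assoc (r : G)⁻¹, ← E.mem_R.1 r.2, inv_mul_cancel_left, ← mul_assoc, ← map_mul,
                show tA * tA = 1 from Subtype.ext (by decide +kernel), map_one, one_mul])
            refine ⟨Sum.inr ((⟨tR * r, hm⟩ : CW) : CW ⧸ AR.subgroupOf CW), ?_⟩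
            show ((tR * (tR * r) : E.R) : E.R ⧸ AR) = (r : E.R ⧸ AR)
            congr 1
            rw [← mul_assoc, show tR * tR = 1 from Subtype.ext hττ, one_mul]
    rw [← hrange, Nat.card_range_of_injective hΦi, Nat.card_sum, ← two_mul]
    congr 1
    have h1 := (AR.subgroupOf CW).card_mul_index
    rw [Nat.card_congr (Subgroup.subgroupOfEquivOfLe hAC).toEquiv, hARc, hCWc, Subgroup.index_eq_card] at h1
    omega
  have hw : f wR = 1 := by
    rw [hval _ (Subtype.ext (by
      show ι wA * ι wA = 1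
      rw [← map_mul, show wA * wA = 1 from Subtype.ext (by decide +kernel), map_one])), hcount]
    obtain ⟨a, rfl⟩ := hm
    obtain ⟨b, rfl⟩ := hj
    refine Even.neg_one_pow ⟨(a - b), ?_⟩
    rw [← Nat.mul_sub, Nat.mul_div_cancel_left _ two_pos]; omega
  have hf2 : IsPGroup 2 ℤˣ := IsPGroup.of_card (n := 1) (by rw [Nat.card_eq_fintype_card]; rfl)
  have hcomm : ∀ {H : Type _} [CommGroup H] (h : E.R →* H), h ⟨ι kA, E.image_R.2 (by decide +kernel)⟩ = 1 →
      ∀ a : A8, (ha : (a : Perm (Fin 8)) ∈ dList) → ∀ h' : ι a ∈ E.R, h ⟨ι a, h'⟩ = 1 := by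
    intro H _ h hk a ha h'
    obtain ⟨b, hb, e⟩ := dList_comm _ ha
    have hbs : ∀ q ∈ dList, Perm.sign q = 1 ∧ q ∈ cList := fun q hq => ⟨(dList_in q hq).1, (dList_in q hq).2.1⟩
    let bR : E.R := ⟨ι (el b (hbs b hb).1), (E.image_R (a := el b (hbs b hb).1)).2 (hbs b hb).2⟩
    let kR : E.R := ⟨ι kA, E.image_R.2 (by decide +kernel)⟩
    have : (⟨ι a, h'⟩ : E.R) = kR * bR * kR⁻¹ * bR⁻¹ := Subtype.ext (by
      show ι a = ι kA * ι (el b (hbs b hb).1) * (ι kA)⁻¹ * (ι (el b (hbs b hb).1))⁻¹
      rw [← map_inv, ← map_inv, ← map_mul, ← map_mul, ← map_mul]; exact congrArg ι (Subtype.ext e))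
    rw [this, map_mul, map_mul, map_mul, map_inv, map_inv, hk]; simp
  have hk3 : (⟨ι kA, E.image_R.2 (by decide +kernel)⟩ : E.R) * ⟨ι kA, E.image_R.2 (by decide +kernel)⟩ *
      ⟨ι kA, E.image_R.2 (by decide +kernel)⟩ = 1 := Subtype.ext (by
    show ι kA * ι kA * ι kA = 1
    rw [← map_mul, ← map_mul, ← map_one ι]; exact congrArg ι (Subtype.ext (by decide +kernel)))
  have hAker : ∀ r : E.R, r ∈ AR → f r = 1 := by
    intro r hr
    obtain ⟨a, ha, e⟩ := (hV _).1 hr
    obtain ⟨x, hx, y, hy, hxy⟩ := aList_split _ ha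
    have hmem : ∀ q ∈ ([1, tP, wP, tP * wP] : List (Perm (Fin 8))) ++ dList, Perm.sign q = 1 ∧ q ∈ cList :=
      fun q hq => (List.mem_append.1 hq).elim (wList_in q) fun h => ⟨(dList_in q h).1, (dList_in q h).2.1⟩
    have hx' := hmem x (List.mem_append_left _ hx)
    have hy' := hmem y (List.mem_append_right _ hy)
    have er : r = ⟨ι (el x hx'.1), (E.image_R (a := el x hx'.1)).2 hx'.2⟩ *
        ⟨ι (el y hy'.1), (E.image_R (a := el y hy'.1)).2 hy'.2⟩ := Subtype.ext (by
      rw [show (r : G) = ι a from e.symm]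
      show ι a = ι _ * ι _
      rw [← map_mul]; exact congrArg ι (Subtype.ext hxy))
    rw [er, map_mul, hcomm f (hom_three hf2 f hk3) (el y hy'.1) hy, mul_one]
    have ht : f ⟨ι tA, E.image_R.2 (by decide +kernel)⟩ = 1 := by
      show Perm.sign _ = 1
      rw [show MulAction.toPermHom E.R (E.R ⧸ AR) ⟨ι tA, E.image_R.2 (by decide +kernel)⟩ = 1 from Equiv.ext fun q => by
        induction q using QuotientGroup.induction_on with
        | H r =>
          show ((⟨ι tA, E.image_R.2 (by decide +kernel)⟩ * r : E.R) : E.R ⧸ AR) = r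
          rw [eq_comm, QuotientGroup.eq]
          show (r : G)⁻¹ * (ι tA * (r : G)) ∈ V
          rw [← E.mem_R.1 r.2, inv_mul_cancel_left]
          exact (hV _).2 ⟨tA, by decide, rfl⟩, map_one]
    simp only [List.mem_cons, List.not_mem_nil, or_false] at hx
    rcases hx with rfl | rfl | rfl | rfl
    · exact (congrArg f (Subtype.ext (map_one ι))).trans (map_one f)
    · exact ht
    · exact hw
    · have h1 : f (⟨ι tA, E.image_R.2 (by decide +kernel)⟩ * wR) = 1 := by rw [map_mul, ht, hw, mul_one]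
      exact (congrArg f (Subtype.ext (map_mul ι tA wA))).trans h1
  -- transfer in the kernel
  let K := f.ker
  have hKc : Nat.card K = 16 * m := by
    have hr : f.range = ⊤ := eq_top_iff.2 fun u _ => by
      rcases Int.units_eq_one_or u with rfl | rfl
      exacts [one_mem _, ⟨tR, hτ⟩]
    have h := K.card_mul_index
    rw [Subgroup.index_ker, hr, Subgroup.card_top, hRc,
      show Nat.card ℤˣ = 2 by rw [Nat.card_eq_fintype_card]; rfl] at h
    omega
  haveI : Fact (Nat.Prime 2) := ⟨Nat.prime_two⟩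
  let A0 : Subgroup K := AR.subgroupOf K
  have hA0c : Nat.card A0 = 2 ^ 4 := by
    rw [Nat.card_congr (Subgroup.subgroupOfEquivOfLe hAker).toEquiv, hARc]; rfl
  have hK2 : ∀ P : Subgroup K, IsPGroup 2 P → Nat.card P ≤ 16 := by
    intro P hP
    obtain ⟨e, he⟩ := IsPGroup.iff_card.1 hP
    have hd := Subgroup.card_subgroup_dvd_card P
    rw [he, hKc, show 16 * m = 2 ^ 4 * m from rfl] at hd
    have := Nat.le_of_dvd (by norm_num)
      (((Nat.coprime_two_left.2 hm).pow_left e).dvd_of_dvd_mul_right hd)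
    rw [he]; exact this
  obtain ⟨Q, hQ⟩ := IsPGroup.exists_le_sylow (G := K) (IsPGroup.of_card (p := 2) hA0c)
  have hQA : (Q : Subgroup K) = A0 := (Subgroup.eq_of_le_of_card_ge hQ (by rw [hA0c]; exact hK2 _ Q.2)).symm
  have hAval : ∀ x : K, x ∈ (Q : Subgroup K) ↔ ∃ a : A8, (a : Perm (Fin 8)) ∈ aList ∧ ι a = ((x : E.R) : G) := by
    intro x; rw [hQA]; exact hV _
  haveI : IsMulCommutative (Q : Subgroup K) := ⟨⟨fun a b => by
    obtain ⟨p, hp, ep⟩ := (hAval a).1 a.2
    obtain ⟨q, hq, eq⟩ := (hAval b).1 b.2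
    refine Subtype.ext (Subtype.ext (Subtype.ext ?_))
    show ((a : K) : E.R).1 * ((b : K) : E.R).1 = ((b : K) : E.R).1 * ((a : K) : E.R).1
    rw [← ep, ← eq, E.comm_iff]
    have h : (aList.all fun x => aList.all fun y => decide (x * y = y * x)) = true := by decide +kernel
    exact decide_eq_true_iff.1 (List.all_eq_true.1 (List.all_eq_true.1 h _ hp) _ hq)⟩⟩
  letI : CommGroup (Q : Subgroup K) := { (inferInstance : Group (Q : Subgroup K)) with
    mul_comm := fun a b => (inferInstance : IsMulCommutative (Q : Subgroup K)).1.comm a b }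
  let v : K →* (Q : Subgroup K) := MonoidHom.transfer (MonoidHom.id (Q : Subgroup K))
  have hQodd : Odd (Q : Subgroup K).index := by
    rw [← Nat.not_even_iff_odd, even_iff_two_dvd]; exact Q.not_dvd_index
  have hvW : ∀ z : K, (((z : E.R) : G) = ι tA ∨ ((z : E.R) : G) = ι wA ∨ ((z : E.R) : G) = ι tA * ι wA) →
      ((v z : K) = z) := by
    intro z hz
    have hzQ : z ∈ (Q : Subgroup K) := (hAval z).2 (by
      rcases hz with e | e | e
      · exact ⟨tA, by decide, e.symm⟩
      · exact ⟨wA, by decide, e.symm⟩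
      · exact ⟨tA * wA, by decide, by rw [map_mul, e]⟩)
    have hfixw : ∀ n ∈ Subgroup.normalizer ((Q : Subgroup K) : Set K),
        ((n : E.R) : G) * ι wA = ι wA * ((n : E.R) : G) := by
      intro n hn
      let wK : K := ⟨wR, hw⟩
      have hwQ : wK ∈ (Q : Subgroup K) := (hAval _).2 ⟨wA, by decide, rfl⟩
      obtain ⟨a, ha, ea⟩ := (hAval _).1 ((Subgroup.mem_normalizer_iff.1 hn wK).1 hwQ)
      rcases E.fused_in_A (n : E.R).2 ha (b := wA) (Subtype.ext (by decide +kernel)) (by decide +kernel) (by decide +kernel) (by decide +kernel)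
        (by decide +kernel) (by decide +kernel) ea.symm with rfl | rfl
      · exact mul_inv_eq_iff_eq_mul.1 ea.symm
      exfalso
      obtain ⟨e, l, hl, hol⟩ := Nat.exists_eq_pow_mul_and_not_dvd (orderOf_pos n).ne' 2 (by norm_num)
      have hl0 : l ≠ 0 := fun h0 => hl (h0 ▸ dvd_zero 2)
      have hord : orderOf (n ^ l) = 2 ^ e := by
        rw [orderOf_pow_of_dvd hl0 (hol ▸ dvd_mul_left l (2 ^ e)), hol, Nat.mul_div_cancel _ (Nat.pos_of_ne_zero hl0)]
      have hP : IsPGroup 2 ↥(Subgroup.zpowers (n ^ l) ⊔ (Q : Subgroup K)) :=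
        IsPGroup.to_sup_of_normal_right' (IsPGroup.of_card (n := e) (by rw [Nat.card_zpowers, hord])) Q.2
          (Subgroup.zpowers_le.2 (pow_mem hn l))
      have hnQ : n ^ l ∈ (Q : Subgroup K) := by
        rw [← Q.is_maximal' hP le_sup_right]
        exact le_sup_left (b := (Q : Subgroup K)) (Subgroup.mem_zpowers _)
      obtain ⟨b, hb, eb⟩ := (hAval _).1 hnQ
      have hbw : ((n ^ l : K) : E.R).1 * ι wA = ι wA * ((n ^ l : K) : E.R).1 := by
        rw [← eb, E.comm_iff]; exact (aList_comm _ hb).1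
      set g : G := ((n : E.R) : G) with hgdef
      have hgt : g * ι tA * g⁻¹ = ι tA := mul_inv_eq_iff_eq_mul.2 (E.mem_R.1 (n : E.R).2)
      have h1 : g * ι wA * g⁻¹ = ι tA * ι wA := by rw [← map_mul]; exact ea.symm
      have h2 : ∀ i : ℕ, g ^ (2 * i) * ι wA * (g ^ (2 * i))⁻¹ = ι wA := by
        intro i
        induction i with
        | zero => simp
        | succ i ih =>
          rw [show 2 * (i + 1) = 1 + (1 + 2 * i) by ring, pow_add, pow_add, pow_one,
            show g * (g * g ^ (2 * i)) * ι wA * (g * (g * g ^ (2 * i)))⁻¹ =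
              g * (g * (g ^ (2 * i) * ι wA * (g ^ (2 * i))⁻¹) * g⁻¹) * g⁻¹ by group, ih, h1,
            show g * (ι tA * ι wA) * g⁻¹ = g * ι tA * g⁻¹ * (g * ι wA * g⁻¹) by group, hgt, h1, ← mul_assoc,
            ← map_mul, show tA * tA = 1 from Subtype.ext (by decide +kernel), map_one, one_mul]
      obtain ⟨i, rfl⟩ : Odd l := by
        rw [← Nat.not_even_iff_odd, even_iff_two_dvd]; exact hl
      have hcv : ((n ^ (2 * i + 1) : K) : E.R).1 = g ^ (2 * i + 1) := by rw [hgdef]; simp
      rw [hcv] at hbw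
      have h3 := mul_inv_eq_iff_eq_mul.2 hbw
      rw [show g ^ (2 * i + 1) * ι wA * (g ^ (2 * i + 1))⁻¹ = g * (g ^ (2 * i) * ι wA * (g ^ (2 * i))⁻¹) * g⁻¹ by
        rw [pow_succ']; group, h2, h1, mul_eq_right, ← map_one ι, E.eq_iff] at h3
      exact absurd h3 (by decide +kernel)
    have hfix' : ∀ n ∈ Subgroup.normalizer ((Q : Subgroup K) : Set K), n * z = z * n := by
      intro n hn
      have h1 := E.mem_R.1 (n : E.R).2
      have h2 := hfixw n hn
      refine Subtype.ext (Subtype.ext ?_)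
      show ((n : E.R) : G) * ((z : E.R) : G) = ((z : E.R) : G) * ((n : E.R) : G)
      rcases hz with e | e | e <;> rw [e]
      · exact h1
      · exact h2
      · rw [← mul_assoc, h1, mul_assoc, h2, mul_assoc]
    have hv : v z = (⟨z, hzQ⟩ : (Q : Subgroup K)) ^ (Q : Subgroup K).index := by
      refine (MonoidHom.transfer_eq_pow _ z fun k g₀ hk => ?_).trans (Subtype.ext (by simp))
      obtain ⟨mm, hmm, he⟩ := Q.conj_eq_normalizer_conj_of_mem (z ^ k) g₀ (pow_mem hzQ k) hk
      rw [he, mul_assoc, ← (Commute.pow_right (hfix' mm hmm : Commute mm z) k).eq, inv_mul_cancel_left]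
    have hz2 : z * z = 1 := by
      obtain ⟨a, ha, e⟩ := (hAval z).1 hzQ
      refine Subtype.ext (Subtype.ext ?_)
      show ((z : E.R) : G) * ((z : E.R) : G) = 1
      rw [← e, ← map_mul, ← map_one ι]
      have := List.all_eq_true.1 lists_closed.1 _ ha
      simp only [Bool.and_eq_true, decide_eq_true_eq] at this
      exact congrArg ι (Subtype.ext this.1)
    obtain ⟨i, hi⟩ := hQodd
    rw [hv, hi, SubgroupClass.coe_pow, pow_succ, pow_mul, pow_two, hz2, one_pow, one_mul]
  let R1 : Subgroup G := (v.ker.map K.subtype).map E.R.subtype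
  have hcard : Nat.card R1 = Nat.card v.ker := by
    rw [Subgroup.card_map_of_injective E.R.subtype_injective, Subgroup.card_map_of_injective K.subtype_injective]
  have hmemR1 : ∀ x : K, v x = 1 → ((x : E.R) : G) ∈ R1 := fun x h => ⟨x, ⟨x, h, rfl⟩, rfl⟩
  have hkK : (⟨ι kA, E.image_R.2 (by decide +kernel)⟩ : E.R) ∈ K := hom_three hf2 f hk3
  have hQ2 : IsPGroup 2 (Q : Subgroup K) := Q.2
  have hdK : ∀ a : A8, (a : Perm (Fin 8)) ∈ dList → ∀ h : ι a ∈ E.R, (⟨ι a, h⟩ : E.R) ∈ K := fun a ha h =>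
    hcomm f hkK a ha h
  have hsub : ∀ q ∈ dList, q ∈ cList := fun q hq => (dList_in q hq).2.1
  have hd1 : ∀ a : A8, (a : Perm (Fin 8)) ∈ dList → ι a ∈ R1 := by
    intro a ha
    obtain ⟨b, hb, e⟩ := dList_comm _ ha
    have hbe : Perm.sign b = 1 := (dList_in b hb).1
    have hbR : ι (el b hbe) ∈ E.R := (E.image_R (a := el b hbe)).2 (hsub b hb)
    let kK : K := ⟨_, hkK⟩
    let bK : K := ⟨⟨_, hbR⟩, hdK (el b hbe) hb hbR⟩
    have hk1 : v kK = 1 := hom_three hQ2 v (Subtype.ext hk3)
    have : ι a = ((kK * bK * kK⁻¹ * bK⁻¹ : K) : E.R).1 := by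
      show ι a = ι kA * ι (el b hbe) * (ι kA)⁻¹ * (ι (el b hbe))⁻¹
      rw [← map_inv, ← map_inv, ← map_mul, ← map_mul, ← map_mul]; exact congrArg ι (Subtype.ext e)
    rw [this]
    exact hmemR1 _ (by rw [map_mul, map_mul, map_mul, map_inv, map_inv, hk1]; simp)
  have hR1A : ∀ a : A8, (a : Perm (Fin 8)) ∈ sList → ι a ∈ R1 → (a : Perm (Fin 8)) ∈ dList := by
    intro a ha h
    obtain ⟨_, ⟨x, hx, rfl⟩, ex⟩ := h
    have ex' : ((x : E.R) : G) = ι a := ex
    -- the element lies in the subgroup of order sixteen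
    have haA : (a : Perm (Fin 8)) ∈ aList := by
      rcases List.mem_append.1 ha with h | h
      · exact h
      exfalso
      obtain ⟨b, hb, e⟩ := List.mem_map.1 h
      have hb' : ι (el b (aList_in b hb).1) ∈ V := (hV _).2 ⟨_, hb, rfl⟩
      have h1 : f (x : E.R) = f ⟨ι (el b (aList_in b hb).1), hVR hb'⟩ * f tR := by
        rw [← map_mul]
        refine congrArg f (Subtype.ext ?_)
        show ((x : E.R) : G) = ι _ * ι τA
        rw [ex', ← map_mul]; exact congrArg ι (Subtype.ext e.symm)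
      rw [show f (x : E.R) = 1 from x.2, hAker _ hb', hτ] at h1
      exact absurd h1 (by decide +kernel)
    obtain ⟨p, hp, q, hq, hpq⟩ := aList_split _ haA
    simp only [List.mem_cons, List.not_mem_nil, or_false] at hp
    by_cases hp1 : p = 1
    · rw [hpq, hp1, one_mul]; exact hq
    exfalso
    have hqe : Perm.sign q = 1 := (dList_in q hq).1
    have hq1 := hd1 (el q hqe) hq
    obtain ⟨_, ⟨y, hy, rfl⟩, ey⟩ := hq1
    have ey' : ((y : E.R) : G) = ι (el q hqe) := ey
    let z : K := x * y⁻¹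
    have hz1 : v z = 1 := by
      show v (x * y⁻¹) = 1
      rw [map_mul, map_inv, MonoidHom.mem_ker.1 hx, MonoidHom.mem_ker.1 hy]; simp
    have hzv : ((z : E.R) : G) = ι (a * (el q hqe)⁻¹) := by
      rw [map_mul, map_inv, ← ex', ← ey']; rfl
    have hpa : ((a * (el q hqe)⁻¹ : A8) : Perm (Fin 8)) = p := by
      show (a : Perm (Fin 8)) * q⁻¹ = p
      rw [hpq, mul_inv_cancel_right]
    have hzW : ((z : E.R) : G) = ι tA ∨ ((z : E.R) : G) = ι wA ∨ ((z : E.R) : G) = ι tA * ι wA := by
      rw [hzv, ← map_mul]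
      rcases hp with rfl | rfl | rfl | rfl
      · exact absurd rfl hp1
      · exact Or.inl (E.eq_iff.2 hpa)
      · exact Or.inr (Or.inl (E.eq_iff.2 hpa))
      · exact Or.inr (Or.inr (E.eq_iff.2 hpa))
    have := hvW z hzW
    rw [hz1] at this
    have h0 : ((z : E.R) : G) = 1 := by rw [← this]; rfl
    rw [hzv, ← map_one ι, E.eq_iff, hpa] at h0
    exact hp1 h0
  -- the kernel has index four
  have hker : ∃ i, Nat.card v.range = 2 ^ i ∧ i = 2 := by
    obtain ⟨i, hi⟩ := IsPGroup.iff_card.1 (hQ2.to_subgroup v.range)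
    refine ⟨i, hi, le_antisymm ?_ ?_⟩
    · have hD : 4 ≤ Nat.card (v.ker ⊓ (Q : Subgroup K) : Subgroup K) := by
        have hev : ∀ q ∈ dList, Perm.sign q = 1 ∧ q ∈ aList := fun q hq => ⟨(dList_in q hq).1, (dList_in q hq).2.2⟩
        have hin : ∀ p : {p // p ∈ dList.toFinset}, ∃ x : K,
            v x = 1 ∧ ((x : E.R) : G) = ι (el p.1 (hev _ (List.mem_toFinset.1 p.2)).1) := by
          intro p
          obtain ⟨_, ⟨x, hx, rfl⟩, ex⟩ := hd1 (el p.1 (hev _ (List.mem_toFinset.1 p.2)).1) (List.mem_toFinset.1 p.2)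
          exact ⟨x, hx, ex⟩
        choose F hF1 hF2 using hin
        calc 4 = Nat.card {p // p ∈ dList.toFinset} := by
              rw [Nat.card_eq_fintype_card, Fintype.card_coe]; decide +kernel
          _ ≤ _ := Nat.card_le_card_of_injective (fun p => (⟨F p, hF1 p,
              (hAval _).2 ⟨_, (hev _ (List.mem_toFinset.1 p.2)).2, (hF2 p).symm⟩⟩ :
                (v.ker ⊓ (Q : Subgroup K) : Subgroup K)))
              fun p q h => Subtype.ext ((E.eq_iff (a := el p.1 (hev _ (List.mem_toFinset.1 p.2)).1)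
                (b := el q.1 (hev _ (List.mem_toFinset.1 q.2)).1)).1 (by
                rw [← hF2 p, ← hF2 q, show F p = F q from congrArg Subtype.val h]))
      have h2 : Nat.card (v.ker ⊓ (Q : Subgroup K) : Subgroup K) ∣ Nat.card v.ker :=
        Subgroup.card_dvd_of_le inf_le_left
      obtain ⟨e, he⟩ := IsPGroup.iff_card.1 (hQ2.to_le (inf_le_right (a := v.ker)) :
        IsPGroup 2 (v.ker ⊓ (Q : Subgroup K) : Subgroup K))
      rw [he] at hD h2
      have h3 := v.ker.card_mul_index
      rw [Subgroup.index_ker, hi, hKc] at h3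
      have h4 : 2 ^ (e + i) ∣ 2 ^ 4 := by
        have : 2 ^ e * 2 ^ i ∣ 2 ^ 4 * m := by
          rw [show 2 ^ 4 * m = 16 * m from rfl, ← h3]; exact Nat.mul_dvd_mul_right h2 _
        rw [pow_add]
        exact (((Nat.coprime_two_left.2 hm).pow_left (e + i))).dvd_of_dvd_mul_right (by rwa [pow_add]) |> fun h => by
          rwa [pow_add] at h
      have h5 := (Nat.pow_dvd_pow_iff_le_right (by norm_num : 1 < 2)).1 h4
      have h6 : 2 ≤ e := by
        by_contra h
        interval_cases e <;> omega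
      omega
    · have hin : ∀ q : {q // q ∈ ([1, tP, wP, tP * wP] : List (Perm (Fin 8))).toFinset}, ∃ x : K,
          ((v x : K) : E.R).1 = ι (el q.1 (wList_in _ (List.mem_toFinset.1 q.2)).1) := by
        rintro ⟨q, hq⟩
        have hq' := List.mem_toFinset.1 hq
        simp only [List.mem_cons, List.not_mem_nil, or_false] at hq'
        have hwK : wR ∈ K := hw
        have htK : (⟨ι tA, E.image_R.2 (by decide +kernel)⟩ : E.R) ∈ K :=
          hAker _ (show ι tA ∈ V from (hV _).2 ⟨tA, by decide, rfl⟩)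
        rcases hq' with rfl | rfl | rfl | rfl
        · exact ⟨1, by rw [map_one]; exact (map_one ι).symm⟩
        · exact ⟨⟨_, htK⟩, by rw [hvW _ (Or.inl rfl)]; rfl⟩
        · exact ⟨⟨_, hwK⟩, by rw [hvW _ (Or.inr (Or.inl rfl))]; rfl⟩
        · exact ⟨⟨_, htK⟩ * ⟨_, hwK⟩, by rw [hvW _ (Or.inr (Or.inr rfl))]; exact (map_mul ι tA wA).symm⟩
      choose F hF using hin
      have hle : 4 ≤ Nat.card v.range := by
        calc 4 = Nat.card {q // q ∈ ([1, tP, wP, tP * wP] : List (Perm (Fin 8))).toFinset} := by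
              rw [Nat.card_eq_fintype_card, Fintype.card_coe]; decide +kernel
          _ ≤ _ := Nat.card_le_card_of_injective (fun q => (⟨v (F q), F q, rfl⟩ : v.range)) fun p q h =>
              Subtype.ext ((E.eq_iff (a := el p.1 (wList_in _ (List.mem_toFinset.1 p.2)).1)
                (b := el q.1 (wList_in _ (List.mem_toFinset.1 q.2)).1)).1 (by
                  rw [← hF p, ← hF q, show v (F p) = v (F q) from congrArg Subtype.val h]))
      rw [hi] at hle
      exact (Nat.pow_le_pow_iff_right (by norm_num : 1 < 2)).1 (show 2 ^ 2 ≤ 2 ^ i from hle)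
  obtain ⟨i, hi, rfl⟩ := hker
  have hc4 : Nat.card R1 = 4 * m := by
    have h := v.ker.card_mul_index
    rw [Subgroup.index_ker, hi, hKc] at h
    rw [hcard]; omega
  refine ⟨R1, Subgroup.map_subtype_le _, by rw [hRc, hc4]; ring, fun x hx h3 => ?_, hd1, hR1A, m, hm, hc4⟩
  have hxK : (⟨x, hx⟩ : E.R) ∈ K := hom_three hf2 f (Subtype.ext h3)
  exact hmemR1 ⟨_, hxK⟩ (hom_three hQ2 v (Subtype.ext (Subtype.ext h3)))

end Emb

end CfsgQS3.Split
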